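import Groth.Agent.Snapper75.Push
import Groth.Agent.FGA29.IntNumBasic
import Groth.Agent.Crv77.IdealSeq
import Groth.Agent.Crv77.Twist
import Groth.Agent.Crv77.HH
import Groth.Agent.Var76.HHPush
import Groth.Agent.Curves2.Ample.ClosedPush

/-! The exact sequence of an effective divisor given by a closed immersion, and its consequences. -/

set_option autoImplicit false
set_option backward.isDefEq.respectTransparency.types false

universe u

open CategoryTheory CategoryTheory.Limits AlgebraicGeometry TopologicalSpace Opposite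

open scoped Groth.Agent.FGA29

noncomputable section

namespace Groth.Agent.HypSq53

variable {X Z : Scheme.{u}}

theorem nonempty_quotMod_iso (f : Z ⟶ X) [IsClosedImmersion f] :
    Nonempty ((Scheme.Modules.pushforward f).obj (Coh.structureModule Z) ≅ ClSub.quotMod f.ker) :=
  Curves2.Ample.nonempty_push_iso f.toImage f.ker.subschemeι f f.toImage_imageι

theorem nonempty_iso_of_cl_eq {L M : X.Modules} (h : PicF.cl L = PicF.cl M) : Nonempty (L ≅ M) :=
  FGA29.nonempty_iso_of_cl h

theorem cl_eq_of_iso {L M : X.Modules} (e : L ≅ M) : PicF.cl L = PicF.cl M := Quot.sound ⟨e⟩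

theorem cl_inverse {N I : X.Modules} (h : ClSub.IsInverseOf N I) : PicF.cl N * PicF.cl I = 1 := by
  obtain ⟨e⟩ := h
  rw [← FGA29.cl_tensor, ← FGA29.cl_one]
  exact cl_eq_of_iso e

/-- `0 → M → M ⊗ N → f_* f^* (M ⊗ N) → 0` for `N` inverse to the ideal of `f`. -/
theorem exists_seq (f : Z ⟶ X) [IsClosedImmersion f] {N : X.Modules} (hN : PicF.IsInvertible N)
    (hNinv : ClSub.IsInverseOf N (ClSub.idealMod f.ker)) {M : X.Modules} (hM : PicF.IsInvertible M) :
    ∃ S : ShortComplex X.Modules, S.ShortExact ∧ Nonempty (S.X₁ ≅ M) ∧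
      Nonempty (S.X₂ ≅ CohB1.tensorMod M N) ∧
      Nonempty (S.X₃ ≅ (Scheme.Modules.pushforward f).obj
        ((Scheme.Modules.pullback f).obj (CohB1.tensorMod M N))) := by
  have hMN := EGA73.isInvertible_tensorMod hM hN
  obtain ⟨T, hT, e₁, e₂, e₃⟩ := Crv77.shortExact_twist
    (Mero90.isFinLocFreeOfRank_of_isInvertible hMN) (Crv77.idealSeq_shortExact f.ker)
  obtain ⟨q⟩ := nonempty_quotMod_iso f
  obtain ⟨p⟩ := Curves2.Ample.nonempty_push_unit_tensor f hMN
  refine ⟨T, hT, nonempty_iso_of_cl_eq ?_, ?_, ⟨eqToIso e₃ ≪≫ EGA73.tensIso q.symm (Iso.refl _) ≪≫ p⟩⟩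
  · rw [e₁]
    show PicF.cl (CohB1.tensorMod (ClSub.idealMod f.ker) _) = _
    rw [FGA29.cl_tensor, FGA29.cl_tensor, mul_comm (PicF.cl M), ← mul_assoc,
      mul_comm (PicF.cl (ClSub.idealMod f.ker)), cl_inverse hNinv, one_mul]
  · exact ⟨eqToIso e₂ ≪≫ EGA73.tensUnitLeft _⟩

variable (k : Type u) [Field k] [Z.Over (Spec (CommRingCat.of k))] [X.Over (Spec (CommRingCat.of k))]
  [IsProper (X ↘ Spec (CommRingCat.of k))]

/-- `χ(M ⊗ N) = χ(M) + χ(Z, (M ⊗ N)|Z)`. -/
theorem euler_tensor_inverse (f : Z ⟶ X) [IsClosedImmersion f]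
    (hf : f ≫ (X ↘ Spec (CommRingCat.of k)) = Z ↘ Spec (CommRingCat.of k))
    {N : X.Modules} (hN : PicF.IsInvertible N)
    (hNinv : ClSub.IsInverseOf N (ClSub.idealMod f.ker)) {M : X.Modules} (hM : PicF.IsInvertible M) :
    Curv2.euler k X (CohB1.tensorMod M N) = Curv2.euler k X M +
      Curv2.euler k Z ((Scheme.Modules.pullback f).obj (CohB1.tensorMod M N)) := by
  obtain ⟨S, hS, ⟨a⟩, ⟨b⟩, ⟨c⟩⟩ := exists_seq f hN hNinv hM
  have hMN := EGA73.isInvertible_tensorMod hM hN
  have := Crv77.isNoetherian_of_proper k X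
  have hP := Amp73.isCoh_of_isInvertible (Amp73.isInvertible_pullback f hMN)
  have h := Snapper75.euler_add k hS (Crv77.isCoh_of_iso a.symm (Amp73.isCoh_of_isInvertible hM))
    (Crv77.isCoh_of_iso b.symm (Amp73.isCoh_of_isInvertible hMN))
    (Crv77.isCoh_of_iso c.symm (QC70.isCoh_pushforward f _ hP))
  rw [Crv77.euler_congr a, Crv77.euler_congr b, Crv77.euler_congr c,
    Curves2.Ample.euler_push k f hf _ hP] at h
  exact h

/- The intersection number of two invertible modules, without a dimension hypothesis. -/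
omit [IsProper (X ↘ Spec (CommRingCat.of k))] in
theorem intE_pair (A B : X.Modules) :
    Cyc90.Dev.intE k ![A, B] (Coh.structureModule X) =
      Curv2.euler k X (Coh.structureModule X) - Curv2.euler k X A - Curv2.euler k X B +
        Curv2.euler k X (CohB1.tensorMod A B) := by
  have h1 : ∀ F : X.Modules, Cyc90.Dev.intE k ![B] F =
      Curv2.euler k X F - Curv2.euler k X (CohB1.tensorMod F B) := fun F => by
    rw [show (![B] : Fin 1 → X.Modules) = Fin.cons B ![] from rfl, FGA29.intE_cons, FGA29.intE_zero,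
      FGA29.intE_zero]
  rw [show (![A, B] : Fin 2 → X.Modules) = Fin.cons A ![B] from rfl, FGA29.intE_cons, h1, h1,
    Crv77.euler_congr (k := k) (EGA73.tensUnitLeft B), Crv77.euler_congr (k := k) (EGA73.tensUnitLeft A),
    Crv77.euler_congr (k := k) (EGA73.tensIso (EGA73.tensUnitLeft A) (Iso.refl B))]
  ring

/-- `(N · M) = deg (M|Z)`. -/
theorem intE_inverse (f : Z ⟶ X) [IsClosedImmersion f]
    (hf : f ≫ (X ↘ Spec (CommRingCat.of k)) = Z ↘ Spec (CommRingCat.of k))
    {N : X.Modules} (hN : PicF.IsInvertible N)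
    (hNinv : ClSub.IsInverseOf N (ClSub.idealMod f.ker)) {M : X.Modules} (hM : PicF.IsInvertible M) :
    Cyc90.Dev.intE k ![N, M] (Coh.structureModule X) =
      Curv2.euler k Z ((Scheme.Modules.pullback f).obj (CohB1.tensorMod M N)) -
        Curv2.euler k Z ((Scheme.Modules.pullback f).obj N) := by
  have hO : PicF.IsInvertible (Coh.structureModule X) := EGA73.isInvertible_structureModule
  have h1 := euler_tensor_inverse k f hf hN hNinv hM
  have h2 := euler_tensor_inverse k f hf hN hNinv hO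
  rw [Crv77.euler_congr (k := k) (EGA73.tensUnitLeft N),
    Crv77.euler_congr (k := k) ((Scheme.Modules.pullback f).mapIso (EGA73.tensUnitLeft N))] at h2
  rw [intE_pair, Crv77.euler_congr (k := k) (EGA73.tensComm N M)]
  linarith

end Groth.Agent.HypSq53
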