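import Groth.Agent.Coh69.MV
import Groth.Agent.Coh69.AffVanish
import Groth.Agent.Var76.ProjCoord
import Groth.Agent.FGA29.IntNumBasic

/-! The square of a curve covered by two affine opens, as a scheme covered by four boxes. -/

set_option autoImplicit false
set_option backward.isDefEq.respectTransparency.types false

universe u

open CategoryTheory CategoryTheory.Limits AlgebraicGeometry TopologicalSpace Opposite

noncomputable section

namespace Groth.Agent.HypSq53

variable {C S : Scheme.{u}} (p : C ⟶ S)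

/-- The box `a × b`. -/
def box (a b : C.Opens) : (pullback p p).Opens :=
  (pullback.fst p p) ⁻¹ᵁ a ⊓ (pullback.snd p p) ⁻¹ᵁ b

theorem box_inf (a a' b b' : C.Opens) : box p a b ⊓ box p a' b' = box p (a ⊓ a') (b ⊓ b') :=
  inf_inf_inf_comm _ _ _ _

theorem box_inf_left (a a' b : C.Opens) : box p a b ⊓ box p a' b = box p (a ⊓ a') b := by
  rw [box_inf, inf_idem]

theorem box_inf_right (a b b' : C.Opens) : box p a b ⊓ box p a b' = box p a (b ⊓ b') := by
  rw [box_inf, inf_idem]

theorem box_sup_left (a a' b : C.Opens) : box p a b ⊔ box p a' b = box p (a ⊔ a') b :=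
  Opens.ext (Set.ext fun _ => ⟨fun h => h.elim (fun h => ⟨Or.inl h.1, h.2⟩) fun h => ⟨Or.inr h.1, h.2⟩,
    fun h => h.1.elim (fun h1 => Or.inl ⟨h1, h.2⟩) fun h1 => Or.inr ⟨h1, h.2⟩⟩)

theorem box_sup_right (a b b' : C.Opens) : box p a b ⊔ box p a b' = box p a (b ⊔ b') :=
  Opens.ext (Set.ext fun _ => ⟨fun h => h.elim (fun h => ⟨h.1, Or.inl h.2⟩) fun h => ⟨h.1, Or.inr h.2⟩,
    fun h => h.2.elim (fun h1 => Or.inl ⟨h.1, h1⟩) fun h1 => Or.inr ⟨h.1, h1⟩⟩)

theorem box_top : box p ⊤ ⊤ = ⊤ := top_inf_eq _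

theorem box_mono {a a' b b' : C.Opens} (ha : a ≤ a') (hb : b ≤ b') : box p a b ≤ box p a' b' :=
  fun _ hx => ⟨ha hx.1, hb hx.2⟩

theorem isAffineOpen_box [IsAffine S] {a b : C.Opens} (ha : IsAffineOpen a) (hb : IsAffineOpen b) :
    IsAffineOpen (box p a b) := by
  have hpb := Scheme.Hom.isPullback_resLE (IsPullback.of_hasPullback p p) (US := ⊤) (UX := a) (UT := b)
    (le_top : b ≤ p ⁻¹ᵁ ⊤) (le_top : a ≤ p ⁻¹ᵁ ⊤) (UY := box p a b) rfl
  have : IsAffine (a : Scheme.{u}) := ha
  have : IsAffine (b : Scheme.{u}) := hb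
  have : IsAffine ((⊤ : S.Opens) : Scheme.{u}) := isAffineOpen_top S
  exact IsAffine.of_isPullback hpb

/-- The cover used throughout. -/
structure Pair (C : Scheme.{u}) where
  u₀ : C.Opens
  u₁ : C.Opens
  h₀ : IsAffineOpen u₀
  h₁ : IsAffineOpen u₁
  h₀₁ : IsAffineOpen (u₀ ⊓ u₁)
  cover : u₀ ⊔ u₁ = ⊤

variable [IsAffine S] (P : Pair C) (F : (pullback p p).Modules) [F.IsQuasicoherent]

include P in
theorem subsingleton_HE_strip {a : C.Opens} (ha : IsAffineOpen a) (n : ℕ) :
    Subsingleton (Coh69.HE (Coh.toAb F) (n + 2) (box p a ⊤)) := by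
  rw [← P.cover, ← box_sup_right]
  refine Coh69.subsingleton_HE_sup _ _ _ (n + 1) ?_ (Coh69.qcoh_subsingleton_HE F (isAffineOpen_box p ha P.h₀) (n + 1))
    (Coh69.qcoh_subsingleton_HE F (isAffineOpen_box p ha P.h₁) (n + 1))
  rw [box_inf_right]
  exact Coh69.qcoh_subsingleton_HE F (isAffineOpen_box p ha P.h₀₁) n

include P in
/-- No cohomology above the middle of the square beyond degree two. -/
theorem subsingleton_HH (n : ℕ) (hn : 3 ≤ n) : Subsingleton (Coh.HH (pullback p p) F n) := by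
  obtain ⟨m, rfl⟩ : ∃ m, n = m + 3 := ⟨n - 3, by omega⟩
  have h : Subsingleton (Coh69.HE (Coh.toAb F) (m + 3) (⊤ : (pullback p p).Opens)) := by
    rw [← box_top p, ← congrArg (fun a => box p a ⊤) P.cover, ← box_sup_left]
    refine Coh69.subsingleton_HE_sup _ _ _ (m + 2) ?_ (subsingleton_HE_strip p P F P.h₀ (m + 1))
      (subsingleton_HE_strip p P F P.h₁ (m + 1))
    rw [box_inf_left]
    exact subsingleton_HE_strip p P F P.h₀₁ m
  exact (Coh69.hhEquiv F (m + 3)).toEquiv.subsingleton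

/-- The preimages of the standard charts of the line. -/
def linePair (k : Type u) [Field k] [IsSeparated (CohB1.ProjSpace.toSpec 1 k)]
    (κ : C ⟶ CohB1.ProjSpace 1 k) [IsAffineHom κ] : Pair C where
  u₀ := κ ⁻¹ᵁ Var76.ProjCoord.U k 1 0
  u₁ := κ ⁻¹ᵁ Var76.ProjCoord.U k 1 1
  h₀ := (Var76.ProjCoord.isAffineOpen_U k 1 0).preimage κ
  h₁ := (Var76.ProjCoord.isAffineOpen_U k 1 1).preimage κ
  h₀₁ := by
    rw [← Scheme.Hom.preimage_inf]
    refine IsAffineOpen.preimage ?_ κ
    show IsAffineOpen (Proj.basicOpen (CohB1.polyGrading 1 k) _ ⊓ Proj.basicOpen (CohB1.polyGrading 1 k) _)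
    rw [← Proj.basicOpen_mul]
    exact Proj.isAffineOpen_basicOpen _ _
      (SetLike.mul_mem_graded (Var76.ProjCoord.X₁ k 1 0).2 (Var76.ProjCoord.X₁ k 1 1).2) (by norm_num)
  cover := eq_top_iff.2 fun x _ => by
    obtain ⟨j, hj⟩ := Var76.ProjCoord.exists_mem_U k 1 (κ x)
    fin_cases j
    · exact Or.inl hj
    · exact Or.inr hj

theorem eulerCharLE_two (k : Type u) [Field k] [(pullback p p).Over (Spec (CommRingCat.of k))]
    [IsProper ((pullback p p) ↘ Spec (CommRingCat.of k))] (P : Pair C) {G : (pullback p p).Modules}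
    (hG : Coh.IsCoh G) : FGA.eulerCharLE k (pullback p p) G 2 = Curv2.euler k (pullback p p) G := by
  have := hG.1
  have hb : Crv77.FinBdd k G 3 := ⟨fun n => Serre71.finite_hh_of_isProper k G hG n,
    fun n hn => subsingleton_HH p P G n hn⟩
  exact hb.euler_eq.symm

theorem intNum_two (k : Type u) [Field k] [(pullback p p).Over (Spec (CommRingCat.of k))]
    [IsProper ((pullback p p) ↘ Spec (CommRingCat.of k))] (P : Pair C)
    {M : Fin 2 → (pullback p p).Modules} (hM : ∀ i, PicF.IsInvertible (M i)) :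
    FGA.intNum k (pullback p p) 2 M (Coh.structureModule _) =
      Cyc90.Dev.intE k M (Coh.structureModule _) :=
  Finset.sum_congr rfl fun I _ => congrArg _ (eulerCharLE_two p k P
    (Amp73.isCoh_tensorMod (Amp73.isCoh_of_isInvertible (Cyc90.Dev.isInvertible_famTensor hM I))
      Crv77.isCoh_structureModule))

end Groth.Agent.HypSq53
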