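import Groth.Agent.HypSq53.Curve
import Groth.Agent.HypSq53.GraphDiv
import Groth.Agent.HypSq53.Prod
import Groth.Agent.Omega57.SectionConormal
import Groth.Agent.Inv57.OfTensor

/-! The square of a hyperelliptic curve and the normal class of the graph of the involution. -/

set_option autoImplicit false
set_option backward.isDefEq.respectTransparency.types false

universe u

open CategoryTheory CategoryTheory.Limits AlgebraicGeometry TopologicalSpace Opposite FunFld

open scoped Groth.Agent.FGA29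

noncomputable section

namespace Groth.Agent.HypSq53

attribute [local instance] CrvPic30.ffAlg

section Cl

variable {X Y W : Scheme.{u}}

theorem cl_pullback_congr (f : X ⟶ Y) {A B : Y.Modules} (h : PicF.cl A = PicF.cl B) :
    PicF.cl ((Scheme.Modules.pullback f).obj A) = PicF.cl ((Scheme.Modules.pullback f).obj B) :=
  cl_eq_of_iso ((Scheme.Modules.pullback f).mapIso (nonempty_iso_of_cl_eq h).some)

theorem cl_pullback_tensor (f : X ⟶ Y) {A B : Y.Modules} (hA : PicF.IsInvertible A) (hB : PicF.IsInvertible B) :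
    PicF.cl ((Scheme.Modules.pullback f).obj (CohB1.tensorMod A B)) =
      PicF.cl ((Scheme.Modules.pullback f).obj A) * PicF.cl ((Scheme.Modules.pullback f).obj B) := by
  rw [← FGA29.cl_tensor]
  exact cl_eq_of_iso (@asIso _ _ _ _ (Amp73.pullTensHom f A B) (Amp73.isIso_pullTensHom f hA hB))

theorem cl_pullback_pow (f : X ⟶ Y) {A : Y.Modules} (hA : PicF.IsInvertible A) (n : ℕ) :
    PicF.cl ((Scheme.Modules.pullback f).obj (CohB1.tensorPow A n)) =
      PicF.cl ((Scheme.Modules.pullback f).obj A) ^ n :=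
  (cl_eq_of_iso (Amp73.pullPowIso f hA n)).trans (FGA29.cl_tensorPow _ n)

theorem cl_pullback_comp (f : X ⟶ Y) (g : Y ⟶ W) {h : X ⟶ W} (hfg : f ≫ g = h) (A : W.Modules) :
    PicF.cl ((Scheme.Modules.pullback f).obj ((Scheme.Modules.pullback g).obj A)) =
      PicF.cl ((Scheme.Modules.pullback h).obj A) :=
  cl_eq_of_iso ((Scheme.Modules.pullbackComp f g).app A ≪≫ (Scheme.Modules.pullbackCongr hfg).app A)

theorem cl_pullback_one (f : X ⟶ Y) :
    PicF.cl ((Scheme.Modules.pullback f).obj (Coh.structureModule Y)) = 1 :=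
  cl_eq_of_iso (PicLoc.pullbackStructureIso f)

theorem cl_pullback_id (A : X.Modules) : PicF.cl ((Scheme.Modules.pullback (𝟙 X)).obj A) = PicF.cl A :=
  cl_eq_of_iso ((Scheme.Modules.pullbackId X).app A)

end Cl

variable {k : Type u} [Field k] [IsAlgClosed k] {C : Scheme.{u}} [C.Over (Spec (CommRingCat.of k))]
  [IsProper (C ↘ Spec (CommRingCat.of k))]

/-- The graph of an endomorphism over the base. -/
abbrev graph (σ : C ⟶ C) (hσp : σ ≫ (C ↘ Spec (CommRingCat.of k)) = C ↘ Spec (CommRingCat.of k)) :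
    C ⟶ pullback (C ↘ Spec (CommRingCat.of k)) (C ↘ Spec (CommRingCat.of k)) :=
  pullback.lift (𝟙 C) σ ((Category.id_comp (C ↘ Spec (CommRingCat.of k))).trans hσp.symm)

omit [IsAlgClosed k] in
theorem isClosedImmersion_graph (σ : C ⟶ C)
    (hσp : σ ≫ (C ↘ Spec (CommRingCat.of k)) = C ↘ Spec (CommRingCat.of k)) :
    IsClosedImmersion (graph σ hσp) :=
  have : IsClosedImmersion (graph σ hσp ≫ pullback.fst _ _) := by
    rw [pullback.lift_fst]; infer_instance
  IsClosedImmersion.of_comp (graph σ hσp) (pullback.fst _ _)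

omit [IsAlgClosed k] [IsProper (C ↘ Spec (CommRingCat.of k))] in
theorem graph_over (σ : C ⟶ C)
    (hσp : σ ≫ (C ↘ Spec (CommRingCat.of k)) = C ↘ Spec (CommRingCat.of k)) :
    graph σ hσp ≫ pullback.fst _ _ ≫ (C ↘ Spec (CommRingCat.of k)) = C ↘ Spec (CommRingCat.of k) := by
  rw [pullback.lift_fst_assoc, Category.id_comp]

omit [IsAlgClosed k] [IsProper (C ↘ Spec (CommRingCat.of k))] in
theorem diagonal_eq_graph :
    pullback.diagonal (C ↘ Spec (CommRingCat.of k)) = graph (𝟙 C) (Category.id_comp _) := rfl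

omit [IsAlgClosed k] in
theorem isProper_square :
    IsProper (pullback.fst (C ↘ Spec (CommRingCat.of k)) (C ↘ Spec (CommRingCat.of k)) ≫
      (C ↘ Spec (CommRingCat.of k))) := inferInstance

variable [IsIntegral C] {h : CrvPic30.Setup k C} {κ : C ⟶ CohB1.ProjSpace 1 k} {g : ℕ}
  {D : Divisor k C.functionField}

/-- The class of `O(sD)`. -/
abbrev clD (h : CrvPic30.Setup k C) (D : Divisor k C.functionField) (s : ℤ) : PicF.Cl C :=
  PicF.cl (h.O (s • D))

omit [IsAlgClosed k] [IsProper (C ↘ Spec (CommRingCat.of k))] in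
theorem clD_mul (s t : ℤ) : clD h D s * clD h D t = clD h D (s + t) := by
  rw [clD, clD, ← FGA29.cl_tensor, clD, add_zsmul]
  exact cl_eq_of_iso (h.nonempty_iso_tensor _ _).some

omit [IsAlgClosed k] [IsProper (C ↘ Spec (CommRingCat.of k))] in
theorem clD_zero : clD h D 0 = 1 := by
  rw [clD, zero_smul]
  exact cl_eq_of_iso h.nonempty_iso_O_zero.some.symm

omit [IsAlgClosed k] [IsProper (C ↘ Spec (CommRingCat.of k))] in
theorem clD_pow (s : ℤ) : ∀ n : ℕ, clD h D s ^ n = clD h D (n * s)
  | 0 => by rw [pow_zero, Nat.cast_zero, zero_mul, clD_zero]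
  | n + 1 => by rw [pow_succ, clD_pow s n, clD_mul, Nat.cast_succ, add_mul, one_mul]

omit [IsAlgClosed k] [IsProper (C ↘ Spec (CommRingCat.of k))] in
theorem clD_inv {x : PicF.Cl C} {s : ℤ} (hx : x * clD h D s = 1) : x = clD h D (-s) := by
  have h1 := congrArg (· * clD h D (-s)) hx
  simp only [one_mul, mul_assoc, clD_mul, add_neg_cancel, clD_zero, mul_one] at h1
  exact h1

omit [IsAlgClosed k] [IsProper (C ↘ Spec (CommRingCat.of k))] in
theorem Double.cl_L (hD : Double h κ g D) : PicF.cl (Lh κ) = clD h D 1 := by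
  rw [clD, one_zsmul]
  exact cl_eq_of_iso hD.iso.some

omit [IsAlgClosed k] [IsProper (C ↘ Spec (CommRingCat.of k))] in
theorem Double.cl_pow (hD : Double h κ g D) (n : ℕ) :
    PicF.cl (CohB1.tensorPow (Lh κ) n) = clD h D n := by
  rw [FGA29.cl_tensorPow, hD.cl_L, clD_pow, mul_one]

omit [IsProper (C ↘ Spec (CommRingCat.of k))] in
theorem Double.euler_of_cl (hD : Double h κ g D) {M : C.Modules} {s : ℤ} (hM : PicF.cl M = clD h D s) :
    Curv2.euler k C M = 2 * s + 1 - g := by
  rw [FGA29.euler_cl k hM, hD.euler_eq]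

theorem Double.cl_omega (hD : Double h κ g D) :
    PicF.cl (Omega.conormal (pullback.diagonal (C ↘ Spec (CommRingCat.of k)))) = clD h D ((g : ℤ) - 1) :=
  cl_eq_of_iso hD.omega_iso.some

variable (σ : C ⟶ C) (hσp : σ ≫ (C ↘ Spec (CommRingCat.of k)) = C ↘ Spec (CommRingCat.of k))

omit [IsAlgClosed k] [IsProper (C ↘ Spec (CommRingCat.of k))] in
theorem Double.pullback_L (hD : Double h κ g D) (hσ : σ ≫ κ = κ) (s : ℕ) :
    PicF.cl ((Scheme.Modules.pullback σ).obj (CohB1.tensorPow (Lh κ) s)) = clD h D s := by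
  rw [cl_pullback_pow σ (isInvertible_Lh κ), cl_pullback_comp σ κ hσ, hD.cl_L, clD_pow, mul_one]

theorem Double.cl_conormal_graph (hD : Double h κ g D) (hσ : σ ≫ κ = κ) :
    PicF.cl (Omega.conormal (graph σ hσp)) = clD h D ((g : ℤ) - 1) := by
  let p := C ↘ Spec (CommRingCat.of k)
  let a : pullback p p ⟶ pullback p p := pullback.lift (pullback.fst p p ≫ σ) (pullback.snd p p)
    (by rw [Category.assoc, hσp]; exact pullback.condition)
  have hpb : IsPullback a (pullback.fst p p) (pullback.fst p p) σ := by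
    refine IsPullback.of_right ?_ (pullback.lift_fst _ _ _) (IsPullback.of_hasPullback p p).flip
    rw [hσp, pullback.lift_snd]
    exact (IsPullback.of_hasPullback p p).flip
  have hcomm : graph σ hσp ≫ a = σ ≫ pullback.diagonal p := by
    refine pullback.hom_ext ?_ ?_
    · rw [Category.assoc, pullback.lift_fst, pullback.lift_fst_assoc, Category.id_comp, Category.assoc,
        pullback.diagonal_fst, Category.comp_id]
    · rw [Category.assoc, pullback.lift_snd, pullback.lift_snd, Category.assoc, pullback.diagonal_snd,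
        Category.comp_id]
  have := isClosedImmersion_graph σ hσp
  obtain ⟨e⟩ := Omega57.exists_pullback_conormal_iso (pullback.diagonal p) a (graph σ hσp) σ
    (pullback.fst p p) (pullback.fst p p) (pullback.diagonal_fst p) (pullback.lift_fst _ _ _) hpb hcomm
  have hg := hD.pos
  have h1 : PicF.cl (Omega.conormal (pullback.diagonal p)) = PicF.cl (CohB1.tensorPow (Lh κ) (g - 1)) := by
    rw [hD.cl_omega, hD.cl_pow, Nat.cast_sub hg, Nat.cast_one]
  rw [← cl_eq_of_iso e, cl_pullback_congr σ h1, hD.pullback_L σ hσ, Nat.cast_sub hg, Nat.cast_one]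

theorem Double.cl_normal (hD : Double h κ g D) (hσ : σ ≫ κ = κ)
    {N : (pullback (C ↘ Spec (CommRingCat.of k)) (C ↘ Spec (CommRingCat.of k))).Modules}
    (hN : PicF.IsInvertible N) (hNinv : ClSub.IsInverseOf N (ClSub.idealMod (graph σ hσp).ker)) :
    PicF.cl ((Scheme.Modules.pullback (graph σ hσp)).obj N) = clD h D (-((g : ℤ) - 1)) := by
  refine clD_inv ?_
  have hI : PicF.IsInvertible (ClSub.idealMod (graph σ hσp).ker) := by
    obtain ⟨e⟩ := hNinv
    exact Inv57.isInvertible_of_tensorMod_iso (EGA73.tensComm _ N ≪≫ e)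
  have h1 := cl_pullback_tensor (graph σ hσp) hN hI
  rw [cl_pullback_congr (graph σ hσp) (show PicF.cl (CohB1.tensorMod N _) = PicF.cl (Coh.structureModule _) by
    rw [FGA29.cl_tensor, cl_inverse hNinv, FGA29.cl_one]), cl_pullback_one] at h1
  rw [← hD.cl_conormal_graph σ hσp hσ]
  exact h1.symm

omit [IsProper (C ↘ Spec (CommRingCat.of k))] [IsAlgClosed k] in
/-- Restriction of a box to the graph. -/
theorem Double.cl_graph_box (hD : Double h κ g D) (hσ : σ ≫ κ = κ) (a b : ℕ) :
    PicF.cl ((Scheme.Modules.pullback (graph σ hσp)).obj (CohB1.tensorMod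
      ((Scheme.Modules.pullback (pullback.fst _ _)).obj (CohB1.tensorPow (Lh κ) a))
      ((Scheme.Modules.pullback (pullback.snd _ _)).obj (CohB1.tensorPow (Lh κ) b)))) =
      clD h D (a + b) := by
  have ha := EGA73.isInvertible_tensorPow (isInvertible_Lh κ) a
  have hb := EGA73.isInvertible_tensorPow (isInvertible_Lh κ) b
  rw [cl_pullback_tensor (graph σ hσp) (Amp73.isInvertible_pullback _ ha) (Amp73.isInvertible_pullback _ hb),
    cl_pullback_comp _ _ (pullback.lift_fst _ _ _), cl_pullback_comp _ _ (pullback.lift_snd _ _ _),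
    cl_pullback_id, hD.pullback_L σ hσ, hD.cl_pow, clD_mul]

end Groth.Agent.HypSq53
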