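import Groth.Agent.HypSq53.Prod
import Groth.Agent.Amp73.PullTensor
import Mathlib.Algebra.Category.Ring.Constructions
import Mathlib.AlgebraicGeometry.Morphisms.Affine

/-! Sections of a box product over a box of affine opens. -/

set_option autoImplicit false
set_option backward.isDefEq.respectTransparency.types false
set_option linter.style.haveILetI false

universe u

open CategoryTheory CategoryTheory.Limits AlgebraicGeometry TopologicalSpace Opposite TensorProduct
open Groth.Agent.Var76.LineBundle Groth.Agent.Amp73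

noncomputable section

namespace Groth.Agent.HypSq53

variable {k : Type u} [Field k] {C : Scheme.{u}} (p : C ⟶ Spec (CommRingCat.of k))

/-- The constants on an open. -/
def cst {Y : Scheme.{u}} (f : Y ⟶ Spec (CommRingCat.of k)) (a : Y.Opens) : CommRingCat.of k ⟶ Γ(Y, a) :=
  (Scheme.ΓSpecIso (CommRingCat.of k)).inv ≫ f.appLE ⊤ a le_top

theorem cst_res {Y : Scheme.{u}} (f : Y ⟶ Spec (CommRingCat.of k)) {a a' : Y.Opens} (h : a' ≤ a) (r : k) :
    Y.presheaf.map (homOfLE h).op (cst f a r) = cst f a' r := by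
  rw [cst, cst, CommRingCat.comp_apply, CommRingCat.comp_apply, ← CommRingCat.comp_apply,
    Scheme.Hom.appLE_map]

theorem cst_top {Y : Scheme.{u}} (f : Y ⟶ Spec (CommRingCat.of k)) (r : k) :
    cst f ⊤ r = Coh.toGlobal f r := by
  show _ = f.appTop _
  rw [cst, CommRingCat.comp_apply]
  exact ConcreteCategory.congr_hom (Scheme.Hom.appLE_eq_app f (U := ⊤)) _

theorem appLE_cst {Y Y' : Scheme.{u}} (g : Y' ⟶ Y) (f : Y ⟶ Spec (CommRingCat.of k)) (a : Y.Opens)
    (w : Y'.Opens) (e : w ≤ g ⁻¹ᵁ a) (r : k) :
    g.appLE a w e (cst f a r) = cst (g ≫ f) w r := by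
  rw [cst, cst, CommRingCat.comp_apply, CommRingCat.comp_apply, ← CommRingCat.comp_apply,
    Scheme.Hom.appLE_comp_appLE]

/-- The scalar structure on sections. -/
@[instance_reducible]
def kmod {Y : Scheme.{u}} (f : Y ⟶ Spec (CommRingCat.of k)) (M : Y.Modules) (a : Y.Opens) : Module k Γ(M, a) :=
  Module.compHom _ (cst f a).hom

variable (A B : C.Modules)

/-- The box product of modules. -/
abbrev boxMod : (pullback p p).Modules :=
  CohB1.tensorMod ((Scheme.Modules.pullback (pullback.fst p p)).obj A)
    ((Scheme.Modules.pullback (pullback.snd p p)).obj B)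

theorem box_le_fst (a b : C.Opens) : box p a b ≤ (pullback.fst p p) ⁻¹ᵁ a := inf_le_left

theorem box_le_snd (a b : C.Opens) : box p a b ≤ (pullback.snd p p) ⁻¹ᵁ b := inf_le_right

/-- `s ⊠ t`. -/
def boxS {a b : C.Opens} (s : Γ(A, a)) (t : Γ(B, b)) : Γ(boxMod p A B, box p a b) :=
  tm _ _ (res _ (box_le_fst p a b) (pullS (pullback.fst p p) A a s))
    (res _ (box_le_snd p a b) (pullS (pullback.snd p p) B b t))

theorem boxS_smul_left {a b : C.Opens} (c : Γ(C, a)) (s : Γ(A, a)) (t : Γ(B, b)) :
    boxS p A B (c • s) t = (pullback.fst p p).appLE a (box p a b) (box_le_fst p a b) c • boxS p A B s t := by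
  rw [boxS, pullS_smul, res_smul, tm_smul_left]
  rfl

theorem boxS_smul_right {a b : C.Opens} (c : Γ(C, b)) (s : Γ(A, a)) (t : Γ(B, b)) :
    boxS p A B s (c • t) = (pullback.snd p p).appLE b (box p a b) (box_le_snd p a b) c • boxS p A B s t := by
  rw [boxS, pullS_smul, res_smul, tm_smul_right]
  rfl

theorem boxS_add_left {a b : C.Opens} (s s' : Γ(A, a)) (t : Γ(B, b)) :
    boxS p A B (s + s') t = boxS p A B s t + boxS p A B s' t := by
  rw [boxS, boxS, boxS, ← tm_add_left]
  congr 1
  exact (congrArg _ (map_add (((Scheme.Modules.pullbackPushforwardAdjunction (pullback.fst p p)).unit.app A).app a).hom s s')).trans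
    (map_add _ _ _)

theorem boxS_add_right {a b : C.Opens} (s : Γ(A, a)) (t t' : Γ(B, b)) :
    boxS p A B s (t + t') = boxS p A B s t + boxS p A B s t' := by
  rw [boxS, boxS, boxS, ← tm_add_right]
  congr 1
  exact (congrArg _ (map_add (((Scheme.Modules.pullbackPushforwardAdjunction (pullback.snd p p)).unit.app B).app b).hom t t')).trans
    (map_add _ _ _)

theorem boxS_res {a b a' b' : C.Opens} (ha : a' ≤ a) (hb : b' ≤ b) (s : Γ(A, a)) (t : Γ(B, b)) :
    res (boxMod p A B) (box_mono p ha hb) (boxS p A B s t) = boxS p A B (res A ha s) (res B hb t) := by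
  rw [boxS, boxS, res_tm, ← res_pullS, ← res_pullS, res_res, res_res, res_res, res_res]

/-- The box map on sections. -/
def beta (a b : C.Opens) :
    letI := kmod p A a; letI := kmod p B b
    Γ(A, a) ⊗[k] Γ(B, b) →+ Γ(boxMod p A B, box p a b) :=
  letI := kmod p A a; letI := kmod p B b
  TensorProduct.liftAddHom
    { toFun := fun s => AddMonoidHom.mk' (fun t => boxS p A B s t) (boxS_add_right p A B s)
      map_zero' := AddMonoidHom.ext fun t => left_eq_add.1 (by
        have h := boxS_add_left p A B (0 : Γ(A, a)) 0 t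
        rw [add_zero] at h
        exact h)
      map_add' := fun s s' => AddMonoidHom.ext fun t => boxS_add_left p A B s s' t }
    (fun r s t => by
      show boxS p A B (cst p a r • s) t = boxS p A B s (cst p b r • t)
      rw [boxS_smul_left, boxS_smul_right, appLE_cst, appLE_cst]
      exact congrArg (· • boxS p A B s t) (congrArg (fun f : pullback p p ⟶ Spec (CommRingCat.of k) =>
        cst f (box p a b) r) pullback.condition))

theorem beta_tmul (a b : C.Opens) (s : Γ(A, a)) (t : Γ(B, b)) :
    letI := kmod p A a; letI := kmod p B b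
    beta p A B a b (s ⊗ₜ[k] t) = boxS p A B s t := by
  rfl

theorem bijective_beta {a b : C.Opens} (ha : IsAffineOpen a) (hb : IsAffineOpen b)
    (hA : ∃ e : Γ(A, a), IsFrame A a e) (hB : ∃ e : Γ(B, b), IsFrame B b e)
    (hiA : PicF.IsInvertible A) (hiB : PicF.IsInvertible B) :
    Function.Bijective (beta p A B a b) := by
  letI := kmod p A a; letI := kmod p B b
  obtain ⟨e, he⟩ := hA
  obtain ⟨e', he'⟩ := hB
  letI := (cst p a).hom.toAlgebra
  letI := (cst p b).hom.toAlgebra
  have hpb := Scheme.Hom.isPullback_resLE (IsPullback.of_hasPullback p p) (US := ⊤) (UX := a) (UT := b)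
    (le_top : b ≤ p ⁻¹ᵁ ⊤) (le_top : a ≤ p ⁻¹ᵁ ⊤) (UY := box p a b) rfl
  have : IsAffine (a : Scheme.{u}) := ha
  have : IsAffine (b : Scheme.{u}) := hb
  have : IsAffine ((⊤ : (Spec (CommRingCat.of k)).Opens) : Scheme.{u}) := isAffineOpen_top _
  have hpo : IsPushout (cst p a) (cst p b) ((pullback.fst p p).appLE a (box p a b) (box_le_fst p a b))
      ((pullback.snd p p).appLE b (box p a b) (box_le_snd p a b)) := by
    refine (isPushout_appTop_of_isPullback hpb).of_iso
      ((⊤ : (Spec (CommRingCat.of k)).Opens).topIso ≪≫ Scheme.ΓSpecIso _) a.topIso b.topIso (box p a b).topIso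
        ?_ ?_ ?_ ?_ <;>
    · simp only [cst, Scheme.Hom.appTop, Scheme.Hom.resLE_app_top, Category.assoc, Iso.inv_hom_id,
        Category.comp_id, Iso.trans_hom, Iso.hom_inv_id_assoc]
  have hpo' := CommRingCat.isPushout_tensorProduct k Γ(C, a) Γ(C, b)
  let E := (hpo.isoIsPushout _ _ hpo').commRingCatIsoToRingEquiv
  have hE : ∀ x y, E.symm (x ⊗ₜ[k] y) = (pullback.fst p p).appLE a (box p a b) (box_le_fst p a b) x *
      (pullback.snd p p).appLE b (box p a b) (box_le_snd p a b) y := fun x y => by
    rw [show x ⊗ₜ[k] y = (x ⊗ₜ[k] (1 : Γ(C, b))) * ((1 : Γ(C, a)) ⊗ₜ[k] y) by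
      rw [Algebra.TensorProduct.tmul_mul_tmul, mul_one, one_mul], map_mul]
    congr 1
    · exact E.symm_apply_eq.2 (congr($(hpo.inl_isoIsPushout_hom _ _ hpo') x)).symm
    · exact E.symm_apply_eq.2 (congr($(hpo.inr_isoIsPushout_hom _ _ hpo') y)).symm
  let la : Γ(C, a) →ₗ[k] Γ(A, a) :=
    { toFun := fun c => c • e
      map_add' := fun x y => add_smul x y e
      map_smul' := fun r x => mul_smul _ _ _ }
  let lb : Γ(C, b) →ₗ[k] Γ(B, b) :=
    { toFun := fun c => c • e'
      map_add' := fun x y => add_smul x y e'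
      map_smul' := fun r x => mul_smul _ _ _ }
  have hla : Function.Bijective la := by
    have := he a le_rfl; rw [res_self] at this; exact this
  have hlb : Function.Bijective lb := by
    have := he' b le_rfl; rw [res_self] at this; exact this
  let T := TensorProduct.congr (LinearEquiv.ofBijective la hla) (LinearEquiv.ofBijective lb hlb)
  let E₀ := boxS p A B e e'
  have hE₀ : IsFrame (boxMod p A B) (box p a b) E₀ :=
    isFrame_tm ((isFrame_pullS _ hiA he).res _) ((isFrame_pullS _ hiB he').res _)
  have key : ∀ z, beta p A B a b (T z) = E.symm z • E₀ := by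
    intro z
    induction z using TensorProduct.induction_on with
    | zero => simp only [map_zero]; exact (zero_smul _ _).symm
    | tmul x y =>
      show boxS p A B (x • e) (y • e') = _
      rw [boxS_smul_left, boxS_smul_right, ← mul_smul, hE]
    | add x y hx hy =>
      rw [map_add, map_add, map_add, hx, hy]
      exact (add_smul _ _ _).symm
  have hfr : Function.Bijective fun c : Γ(pullback p p, box p a b) => c • E₀ := by
    have := hE₀ _ le_rfl; simpa only [res_self] using this
  refine ⟨fun u v huv => ?_, fun w => ?_⟩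
  · obtain ⟨u, rfl⟩ := T.surjective u
    obtain ⟨v, rfl⟩ := T.surjective v
    rw [key, key] at huv
    rw [E.symm.injective (hfr.1 huv)]
  · obtain ⟨c, hc⟩ := hfr.2 w
    exact ⟨T (E c), by rw [key, RingEquiv.symm_apply_apply]; exact hc⟩

end Groth.Agent.HypSq53
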