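import Mathlib.LinearAlgebra.TensorProduct.Basic
import Mathlib.LinearAlgebra.TensorProduct.Prod
import Mathlib.RingTheory.Flat.Basic
import Mathlib.Algebra.Exact.Basic
import Mathlib.RingTheory.Flat.Basic
import Mathlib.LinearAlgebra.Basis.VectorSpace

/-! Tensoring a two-piece gluing diagram with a vector space. -/

set_option autoImplicit false

open TensorProduct

namespace Groth.Agent.HypSq53

variable {k Q M M₀ M₁ M₀₁ : Type*} [Field k] [AddCommGroup Q] [Module k Q] [AddCommGroup M] [Module k M]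
  [AddCommGroup M₀] [Module k M₀] [AddCommGroup M₁] [Module k M₁] [AddCommGroup M₀₁] [Module k M₀₁]
  (r₀ : M →ₗ[k] M₀) (r₁ : M →ₗ[k] M₁) (s₀ : M₀ →ₗ[k] M₀₁) (s₁ : M₁ →ₗ[k] M₀₁)

/-- The difference map. -/
def diff : M₀ × M₁ →ₗ[k] M₀₁ := s₀.comp (LinearMap.fst k M₀ M₁) - s₁.comp (LinearMap.snd k M₀ M₁)

theorem lTensor_diff (y : Q ⊗[k] (M₀ × M₁)) :
    (diff s₀ s₁).lTensor Q y =
      s₀.lTensor Q (prodRight k k Q M₀ M₁ y).1 - s₁.lTensor Q (prodRight k k Q M₀ M₁ y).2 := by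
  induction y using TensorProduct.induction_on with
  | zero => simp
  | tmul q m => simp [diff]
  | add x y hx hy => simp [map_add, hx, hy]; abel

theorem prodRight_lTensor (x : Q ⊗[k] M) :
    prodRight k k Q M₀ M₁ ((r₀.prod r₁).lTensor Q x) = (r₀.lTensor Q x, r₁.lTensor Q x) := by
  induction x using TensorProduct.induction_on with
  | zero => simp only [map_zero]; rfl
  | tmul q m => simp
  | add x y hx hy => simp [map_add, hx, hy]

variable {G G₀ G₁ G₀₁ : Type*} [AddCommGroup G] [AddCommGroup G₀] [AddCommGroup G₁] [AddCommGroup G₀₁]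
  (R₀ : G →+ G₀) (R₁ : G →+ G₁) (S₀ : G₀ →+ G₀₁) (S₁ : G₁ →+ G₀₁)
  (β : Q ⊗[k] M →+ G) (β₀ : Q ⊗[k] M₀ →+ G₀) (β₁ : Q ⊗[k] M₁ →+ G₁) (β₀₁ : Q ⊗[k] M₀₁ →+ G₀₁)
  (c₀ : ∀ x, R₀ (β x) = β₀ (r₀.lTensor Q x)) (c₁ : ∀ x, R₁ (β x) = β₁ (r₁.lTensor Q x))
  (d₀ : ∀ x, S₀ (β₀ x) = β₀₁ (s₀.lTensor Q x)) (d₁ : ∀ x, S₁ (β₁ x) = β₀₁ (s₁.lTensor Q x))

include c₀ c₁ d₀ d₁ in
/-- Bijectivity passes to the glued piece. -/
theorem bijective_glue (hinj : Function.Injective (r₀.prod r₁)) (hex : Function.Exact (r₀.prod r₁) (diff s₀ s₁))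
    (hG : ∀ g, R₀ g = 0 → R₁ g = 0 → g = 0) (hS : ∀ g, S₀ (R₀ g) = S₁ (R₁ g))
    (h₀ : Function.Bijective β₀) (h₁ : Function.Bijective β₁) (h₀₁ : Function.Injective β₀₁) :
    Function.Bijective β := by
  have : Module.Flat k Q := Module.Flat.of_free
  have hi := Module.Flat.lTensor_preserves_injective_linearMap (M := Q) (r₀.prod r₁) hinj
  refine ⟨(injective_iff_map_eq_zero _).2 fun x hx => hi ?_, fun g => ?_⟩
  · have e₀ : r₀.lTensor Q x = 0 := h₀.1 (by rw [← c₀, hx, map_zero, map_zero])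
    have e₁ : r₁.lTensor Q x = 0 := h₁.1 (by rw [← c₁, hx, map_zero, map_zero])
    rw [map_zero]
    exact (prodRight k k Q M₀ M₁).injective (by rw [prodRight_lTensor, e₀, e₁, map_zero]; rfl)
  · obtain ⟨x₀, hx₀⟩ := h₀.2 (R₀ g)
    obtain ⟨x₁, hx₁⟩ := h₁.2 (R₁ g)
    let y := (prodRight k k Q M₀ M₁).symm (x₀, x₁)
    have hy : prodRight k k Q M₀ M₁ y = (x₀, x₁) := LinearEquiv.apply_symm_apply _ _
    have h2 : (diff s₀ s₁).lTensor Q y = 0 := by
      rw [lTensor_diff, hy, sub_eq_zero]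
      apply h₀₁
      rw [← d₀, ← d₁, hx₀, hx₁, hS]
    obtain ⟨x, hx⟩ := (Module.Flat.lTensor_exact Q hex y).1 h2
    refine ⟨x, sub_eq_zero.1 (hG _ ?_ ?_)⟩
    · have h3 := congrArg (fun z => (prodRight k k Q M₀ M₁ z).1) hx
      simp only [prodRight_lTensor, hy] at h3
      rw [map_sub, c₀, h3, hx₀, sub_self]
    · have h3 := congrArg (fun z => (prodRight k k Q M₀ M₁ z).2) hx
      simp only [prodRight_lTensor, hy] at h3
      rw [map_sub, c₁, h3, hx₁, sub_self]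

include d₀ d₁ in
/-- Surjectivity of the difference map passes to the tensor product. -/
theorem surjective_diff (hd : Function.Surjective (diff s₀ s₁)) (h₀₁ : Function.Surjective β₀₁) (z : G₀₁) :
    ∃ a b, S₀ a - S₁ b = z := by
  obtain ⟨x, rfl⟩ := h₀₁ z
  obtain ⟨y, rfl⟩ := LinearMap.lTensor_surjective Q hd x
  exact ⟨β₀ (prodRight k k Q M₀ M₁ y).1, β₁ (prodRight k k Q M₀ M₁ y).2,
    by rw [d₀, d₁, lTensor_diff, map_sub]⟩

end Groth.Agent.HypSq53
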