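import Groth.Agent.HypSq53.Box
import Groth.Agent.HypSq53.TensorGlue
import Groth.Agent.CrvFF30.MV
import Groth.Agent.Crv77.Sections
import Groth.Agent.QC70.Sections

/-! The Künneth formula for box products with vanishing first cohomology, from a two-piece cover. -/

set_option autoImplicit false
set_option backward.isDefEq.respectTransparency.types false
set_option linter.style.haveILetI false

universe u

open CategoryTheory CategoryTheory.Limits AlgebraicGeometry TopologicalSpace Opposite TensorProduct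
open Groth.Agent.Var76.LineBundle Groth.Agent.Amp73

noncomputable section

namespace Groth.Agent.HypSq53

theorem eq_zero_of_res₂ {Y : Scheme.{u}} (M : Y.Modules) {T A B : Y.Opens} (hA : A ≤ T) (hB : B ≤ T)
    (hT : T ≤ A ⊔ B) (x : Γ(M, T)) (ha : QC70.res M hA x = 0) (hb : QC70.res M hB x = 0) : x = 0 :=
  QC70.section_ext M x 0 fun p hp => by
    rcases Opens.mem_sup.1 (hT hp) with h | h
    · exact ⟨A, hA, h, by rw [ha, QC70.res_zero]⟩
    · exact ⟨B, hB, h, by rw [hb, QC70.res_zero]⟩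

theorem exists_glue₂ {Y : Scheme.{u}} (M : Y.Modules) {T A B W : Y.Opens} (hA : A ≤ T) (hB : B ≤ T)
    (hWA : W ≤ A) (hWB : W ≤ B) (hW : A ⊓ B ≤ W) (hT : T ≤ A ⊔ B) (a : Γ(M, A)) (b : Γ(M, B))
    (h : QC70.res M hWA a = QC70.res M hWB b) : ∃ t : Γ(M, T), QC70.res M hA t = a ∧ QC70.res M hB t = b := by
  have hsup : T ≤ ⨆ i : Bool, cond i A B := by rw [iSup_bool_eq]; exact hT
  have hle : ∀ i : Bool, cond i A B ≤ T := fun i => by cases i <;> assumption
  have h1 : QC70.res M (inf_le_left : A ⊓ B ≤ A) a = QC70.res M (inf_le_right : A ⊓ B ≤ B) b := by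
    rw [← QC70.res_res hWA hW, h, QC70.res_res]
  obtain ⟨t, ht⟩ := QC70.exists_glue M (fun i : Bool => cond i A B) hle hsup
    (fun i => Bool.rec b a i) (fun i j => by
      cases i <;> cases j
      · exact congrArg (fun z => z) rfl
      · show QC70.res M (inf_le_left : B ⊓ A ≤ B) b = QC70.res M (inf_le_right : B ⊓ A ≤ A) a
        have := congrArg (QC70.res M (le_inf inf_le_right inf_le_left : B ⊓ A ≤ A ⊓ B)) h1
        rw [QC70.res_res, QC70.res_res] at this
        exact this.symm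
      · exact h1
      · exact congrArg (fun z => z) rfl)
  exact ⟨t, ht true, ht false⟩

/-- Restriction of sections as an additive map. -/
def resA {Y : Scheme.{u}} (M : Y.Modules) {a a' : Y.Opens} (h : a' ≤ a) : Γ(M, a) →+ Γ(M, a') :=
  (M.presheaf.map (homOfLE h).op).hom

theorem resA_apply {Y : Scheme.{u}} (M : Y.Modules) {a a' : Y.Opens} (h : a' ≤ a) (x : Γ(M, a)) :
    resA M h x = res M h x := rfl

theorem resA_resA {Y : Scheme.{u}} (M : Y.Modules) {a a' a'' : Y.Opens} (h : a' ≤ a) (h' : a'' ≤ a')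
    (x : Γ(M, a)) : resA M h' (resA M h x) = resA M (h'.trans h) x :=
  res_res M h h' x

theorem eq_zero_two {Y : Scheme.{u}} (M : Y.Modules) {T A B : Y.Opens} (hA : A ≤ T) (hB : B ≤ T)
    (hT : T ≤ A ⊔ B) (x : Γ(M, T)) (ha : resA M hA x = 0) (hb : resA M hB x = 0) : x = 0 :=
  eq_zero_of_res₂ M hA hB hT x ha hb

theorem exists_diff_of_H1 {Y : Scheme.{u}} (M : Y.Modules) {U V : Y.Opens} (hUV : U ⊔ V = ⊤)
    (h : Subsingleton (Coh.HH Y M 1)) (z : Γ(M, U ⊓ V)) :
    ∃ s t, resA M (inf_le_left : U ⊓ V ≤ U) s - resA M (inf_le_right : U ⊓ V ≤ V) t = z := by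
  refine (CrvFF30.mvDelta_eq_zero_iff (Coh.toAb M) U V z).1 ?_
  have : Subsingleton (Coh69.HE (Coh.toAb M) 1 (⊤ : Y.Opens)) := (Coh69.hhEquiv M 1).symm.toEquiv.subsingleton
  have : Subsingleton (Coh69.HE (Coh.toAb M) 1 (U ⊔ V)) := hUV.symm ▸ this
  exact Subsingleton.elim _ _

theorem subsingleton_H1_sup {Y : Scheme.{u}} (M : Y.Modules) {U V W T : Y.Opens} (hW : U ⊓ V = W)
    (hT : U ⊔ V = T) (hU : Subsingleton (Coh69.HE (Coh.toAb M) 1 U))
    (hV : Subsingleton (Coh69.HE (Coh.toAb M) 1 V))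
    (h : ∀ z : Γ(M, W), ∃ s t, resA M (hW ▸ inf_le_left : W ≤ U) s - resA M (hW ▸ inf_le_right : W ≤ V) t = z) :
    Subsingleton (Coh69.HE (Coh.toAb M) 1 T) := by
  subst hW hT
  refine subsingleton_of_forall_eq 0 fun x => ?_
  obtain ⟨z, rfl⟩ := CrvFF30.mvDelta_surjective (Coh.toAb M) U V hU hV x
  exact (CrvFF30.mvDelta_eq_zero_iff (Coh.toAb M) U V z).2 (h z)

variable {k : Type u} [Field k] {C : Scheme.{u}} (p : C ⟶ Spec (CommRingCat.of k))

/-- Restriction of sections as a linear map. -/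
def resL (M : C.Modules) {a a' : C.Opens} (h : a' ≤ a) :
    letI := kmod p M a; letI := kmod p M a'
    Γ(M, a) →ₗ[k] Γ(M, a') :=
  letI := kmod p M a; letI := kmod p M a'
  { toFun := fun x => res M h x
    map_add' := (resA M h).map_add
    map_smul' := fun r x => by
      show res M h (cst p a r • x) = cst p a' r • res M h x
      rw [res_smul, cst_res] }

variable (A B : C.Modules) (P : Pair C)

/-- Framed on the two pieces. -/
def Framed (M : C.Modules) : Prop :=
  PicF.IsInvertible M ∧ (∃ e : Γ(M, P.u₀), IsFrame M P.u₀ e) ∧ (∃ e : Γ(M, P.u₁), IsFrame M P.u₁ e)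

variable {P A B} in
theorem Framed.inf (hA : Framed P A) : ∃ e : Γ(A, P.u₀ ⊓ P.u₁), IsFrame A (P.u₀ ⊓ P.u₁) e := by
  obtain ⟨e, he⟩ := hA.2.1
  exact ⟨_, he.res inf_le_left⟩

theorem beta_res {a b a' b' : C.Opens} (ha : a' ≤ a) (hb : b' ≤ b) :
    letI := kmod p A a; letI := kmod p B b; letI := kmod p A a'; letI := kmod p B b'
    ∀ x, resA (boxMod p A B) (box_mono p ha hb) (beta p A B a b x) =
      beta p A B a' b' (TensorProduct.map (resL p A ha) (resL p B hb) x) := by
  letI := kmod p A a; letI := kmod p B b; letI := kmod p A a'; letI := kmod p B b'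
  intro x
  induction x using TensorProduct.induction_on with
  | zero => simp only [map_zero]
  | tmul s t => exact boxS_res p A B ha hb s t
  | add x y hx hy => simp only [map_add, hx, hy]

theorem glue_exact (M : C.Modules) :
    letI := kmod p M ⊤; letI := kmod p M P.u₀; letI := kmod p M P.u₁; letI := kmod p M (P.u₀ ⊓ P.u₁)
    Function.Injective ((resL p M (le_top : P.u₀ ≤ ⊤)).prod (resL p M (le_top : P.u₁ ≤ ⊤))) ∧
      Function.Exact ((resL p M (le_top : P.u₀ ≤ ⊤)).prod (resL p M (le_top : P.u₁ ≤ ⊤)))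
        (diff (resL p M (inf_le_left : P.u₀ ⊓ P.u₁ ≤ P.u₀)) (resL p M (inf_le_right : P.u₀ ⊓ P.u₁ ≤ P.u₁))) := by
  letI := kmod p M ⊤; letI := kmod p M P.u₀; letI := kmod p M P.u₁; letI := kmod p M (P.u₀ ⊓ P.u₁)
  refine ⟨(injective_iff_map_eq_zero _).2 fun x hx =>
    eq_zero_two M (le_top : P.u₀ ≤ ⊤) (le_top : P.u₁ ≤ ⊤) P.cover.ge x (congrArg Prod.fst hx) (congrArg Prod.snd hx),
    fun y => ⟨fun hy => ?_, ?_⟩⟩
  · obtain ⟨t, h0, h1⟩ := exists_glue₂ M (le_top : P.u₀ ≤ ⊤) (le_top : P.u₁ ≤ ⊤)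
      (inf_le_left : P.u₀ ⊓ P.u₁ ≤ P.u₀) inf_le_right le_rfl P.cover.ge y.1 y.2 (sub_eq_zero.1 hy)
    exact ⟨t, Prod.ext h0 h1⟩
  · rintro ⟨t, rfl⟩
    show res M _ (res M _ t) - res M _ (res M _ t) = 0
    rw [res_res, res_res, sub_self]

theorem surjective_diff_of_H1 (M : C.Modules) (h : Subsingleton (Coh.HH C M 1)) :
    letI := kmod p M P.u₀; letI := kmod p M P.u₁; letI := kmod p M (P.u₀ ⊓ P.u₁)
    Function.Surjective (diff (resL p M (inf_le_left : P.u₀ ⊓ P.u₁ ≤ P.u₀))
      (resL p M (inf_le_right : P.u₀ ⊓ P.u₁ ≤ P.u₁))) := by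
  letI := kmod p M P.u₀; letI := kmod p M P.u₁; letI := kmod p M (P.u₀ ⊓ P.u₁)
  intro z
  obtain ⟨s, t, hst⟩ := exists_diff_of_H1 M P.cover h z
  exact ⟨(s, t), hst⟩

theorem beta_res_right {a b b' : C.Opens} (hb : b' ≤ b) :
    letI := kmod p A a; letI := kmod p B b; letI := kmod p B b'
    ∀ x, resA (boxMod p A B) (box_mono p le_rfl hb) (beta p A B a b x) =
      beta p A B a b' ((resL p B hb).lTensor Γ(A, a) x) := by
  letI := kmod p A a; letI := kmod p B b; letI := kmod p B b'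
  intro x
  induction x using TensorProduct.induction_on with
  | zero => simp only [map_zero]
  | tmul s t =>
    refine (boxS_res p A B le_rfl hb s t).trans ?_
    rw [Amp73.res_self]
    rfl
  | add x y hx hy => simp only [map_add, hx, hy]

theorem bijective_strip {a : C.Opens} (ha : IsAffineOpen a) (hA : PicF.IsInvertible A)
    (hAa : ∃ e : Γ(A, a), IsFrame A a e) (hB : Framed P B) :
    Function.Bijective (beta p A B a ⊤) := by
  letI := kmod p A a
  letI := kmod p B ⊤; letI := kmod p B P.u₀; letI := kmod p B P.u₁; letI := kmod p B (P.u₀ ⊓ P.u₁)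
  obtain ⟨hinj, hex⟩ := glue_exact p P B
  refine bijective_glue (R₀ := resA _ (box_mono p le_rfl le_top)) (R₁ := resA _ (box_mono p le_rfl le_top))
    (S₀ := resA _ (box_mono p le_rfl inf_le_left)) (S₁ := resA _ (box_mono p le_rfl inf_le_right))
    (resL p B (le_top : P.u₀ ≤ ⊤)) (resL p B (le_top : P.u₁ ≤ ⊤))
    (resL p B (inf_le_left : P.u₀ ⊓ P.u₁ ≤ P.u₀)) (resL p B (inf_le_right : P.u₀ ⊓ P.u₁ ≤ P.u₁))
    (beta p A B a ⊤) (beta p A B a P.u₀) (beta p A B a P.u₁) (beta p A B a (P.u₀ ⊓ P.u₁))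
    (beta_res_right p A B le_top) (beta_res_right p A B le_top) (beta_res_right p A B inf_le_left)
    (beta_res_right p A B inf_le_right) hinj hex
    (fun g => eq_zero_two _ _ _ (by rw [box_sup_right, P.cover]) g)
    (fun g => by rw [resA_resA, resA_resA])
    (bijective_beta p A B ha P.h₀ hAa hB.2.1 hA hB.1) (bijective_beta p A B ha P.h₁ hAa hB.2.2 hA hB.1)
    (bijective_beta p A B ha P.h₀₁ hAa hB.inf hA hB.1).1

theorem subsingleton_H1_strip {a : C.Opens} (ha : IsAffineOpen a) (hA : PicF.IsInvertible A)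
    (hAa : ∃ e : Γ(A, a), IsFrame A a e) (hB : Framed P B) (h1 : Subsingleton (Coh.HH C B 1))
    [(boxMod p A B).IsQuasicoherent] :
    Subsingleton (Coh69.HE (Coh.toAb (boxMod p A B)) 1 (box p a ⊤)) := by
  letI := kmod p A a
  letI := kmod p B P.u₀; letI := kmod p B P.u₁; letI := kmod p B (P.u₀ ⊓ P.u₁)
  refine subsingleton_H1_sup _ (box_inf_right p a P.u₀ P.u₁) (by rw [box_sup_right, P.cover])
    (Coh69.qcoh_subsingleton_HE _ (isAffineOpen_box p ha P.h₀) 0)
    (Coh69.qcoh_subsingleton_HE _ (isAffineOpen_box p ha P.h₁) 0) fun z => ?_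
  refine surjective_diff (resL p B (inf_le_left : P.u₀ ⊓ P.u₁ ≤ P.u₀))
    (resL p B (inf_le_right : P.u₀ ⊓ P.u₁ ≤ P.u₁)) _ _ (beta p A B a P.u₀) (beta p A B a P.u₁)
    (beta p A B a (P.u₀ ⊓ P.u₁)) (beta_res_right p A B inf_le_left) (beta_res_right p A B inf_le_right)
    (surjective_diff_of_H1 p P B h1)
    (bijective_beta p A B ha P.h₀₁ hAa hB.inf hA hB.1).2 z

/-- The box map with the factors exchanged. -/
def betaC (a b : C.Opens) :
    letI := kmod p A a; letI := kmod p B b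
    Γ(B, b) ⊗[k] Γ(A, a) →+ Γ(boxMod p A B, box p a b) :=
  letI := kmod p A a; letI := kmod p B b
  (beta p A B a b).comp (TensorProduct.comm k Γ(B, b) Γ(A, a)).toLinearMap.toAddMonoidHom

theorem betaC_res {a a' : C.Opens} (ha : a' ≤ a) :
    letI := kmod p A a; letI := kmod p A a'; letI := kmod p B ⊤
    ∀ x, resA (boxMod p A B) (box_mono p ha le_rfl) (betaC p A B a ⊤ x) =
      betaC p A B a' ⊤ ((resL p A ha).lTensor Γ(B, ⊤) x) := by
  letI := kmod p A a; letI := kmod p A a'; letI := kmod p B ⊤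
  intro x
  induction x using TensorProduct.induction_on with
  | zero => simp only [map_zero]
  | tmul t s =>
    refine (boxS_res p A B ha le_rfl s t).trans ?_
    rw [Amp73.res_self]
    rfl
  | add x y hx hy => simp only [map_add, hx, hy]

theorem bijective_beta_top (hA : Framed P A) (hB : Framed P B) :
    Function.Bijective (beta p A B ⊤ ⊤) := by
  letI := kmod p B ⊤
  letI := kmod p A ⊤; letI := kmod p A P.u₀; letI := kmod p A P.u₁; letI := kmod p A (P.u₀ ⊓ P.u₁)
  have hs : ∀ {a : C.Opens} (_ : IsAffineOpen a) (_ : ∃ e : Γ(A, a), IsFrame A a e),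
      letI := kmod p A a
      Function.Bijective (betaC p A B a ⊤) := fun {a} ha hAa =>
    letI := kmod p A a
    (bijective_strip p A B P ha hA.1 hAa hB).comp (LinearEquiv.bijective _)
  obtain ⟨hinj, hex⟩ := glue_exact p P A
  have h : Function.Bijective (betaC p A B ⊤ ⊤) :=
    bijective_glue (R₀ := resA _ (box_mono p le_top le_rfl)) (R₁ := resA _ (box_mono p le_top le_rfl))
      (S₀ := resA _ (box_mono p inf_le_left le_rfl)) (S₁ := resA _ (box_mono p inf_le_right le_rfl))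
      (resL p A (le_top : P.u₀ ≤ ⊤)) (resL p A (le_top : P.u₁ ≤ ⊤))
      (resL p A (inf_le_left : P.u₀ ⊓ P.u₁ ≤ P.u₀)) (resL p A (inf_le_right : P.u₀ ⊓ P.u₁ ≤ P.u₁))
      (betaC p A B ⊤ ⊤) (betaC p A B P.u₀ ⊤) (betaC p A B P.u₁ ⊤) (betaC p A B (P.u₀ ⊓ P.u₁) ⊤)
      (betaC_res p A B le_top) (betaC_res p A B le_top) (betaC_res p A B inf_le_left)
      (betaC_res p A B inf_le_right) hinj hex
      (fun g => eq_zero_two _ _ _ (by rw [box_sup_left, P.cover]) g)
      (fun g => by rw [resA_resA, resA_resA])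
      (hs P.h₀ hA.2.1) (hs P.h₁ hA.2.2) (hs P.h₀₁ hA.inf).1
  exact (Function.Bijective.of_comp_iff _ (LinearEquiv.bijective _)).1 h

/-- The two vanishings. -/
theorem subsingleton_HH_box (hA : Framed P A) (hB : Framed P B) (hA1 : Subsingleton (Coh.HH C A 1))
    (hB1 : Subsingleton (Coh.HH C B 1)) [(boxMod p A B).IsQuasicoherent] :
    Subsingleton (Coh.HH (pullback p p) (boxMod p A B) 1) ∧
      Subsingleton (Coh.HH (pullback p p) (boxMod p A B) 2) := by
  have h0 := subsingleton_H1_strip p A B P P.h₀ hA.1 hA.2.1 hB hB1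
  have h1 := subsingleton_H1_strip p A B P P.h₁ hA.1 hA.2.2 hB hB1
  have h01 := subsingleton_H1_strip p A B P P.h₀₁ hA.1 hA.inf hB hB1
  have htop : box p P.u₀ ⊤ ⊔ box p P.u₁ ⊤ = ⊤ := by rw [box_sup_left, P.cover, box_top]
  refine ⟨?_, ?_⟩
  · letI := kmod p B ⊤; letI := kmod p A P.u₀; letI := kmod p A P.u₁; letI := kmod p A (P.u₀ ⊓ P.u₁)
    have h : Subsingleton (Coh69.HE (Coh.toAb (boxMod p A B)) 1 (⊤ : (pullback p p).Opens)) :=
      subsingleton_H1_sup _ (box_inf_left p P.u₀ P.u₁ ⊤) htop h0 h1 fun z =>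
        surjective_diff (resL p A (inf_le_left : P.u₀ ⊓ P.u₁ ≤ P.u₀))
          (resL p A (inf_le_right : P.u₀ ⊓ P.u₁ ≤ P.u₁)) _ _ (betaC p A B P.u₀ ⊤) (betaC p A B P.u₁ ⊤)
          (betaC p A B (P.u₀ ⊓ P.u₁) ⊤) (betaC_res p A B inf_le_left) (betaC_res p A B inf_le_right)
          (surjective_diff_of_H1 p P A hA1)
          ((bijective_strip p A B P P.h₀₁ hA.1 hA.inf hB).comp (LinearEquiv.bijective _)).2 z
    exact (Coh69.hhEquiv _ 1).toEquiv.subsingleton
  · have h : Subsingleton (Coh69.HE (Coh.toAb (boxMod p A B)) 2 (⊤ : (pullback p p).Opens)) := by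
      rw [← htop]
      refine Coh69.subsingleton_HE_sup _ _ _ 1 ?_ (subsingleton_HE_strip p P _ P.h₀ 0)
        (subsingleton_HE_strip p P _ P.h₁ 0)
      rw [box_inf_left]
      exact h01
    exact (Coh69.hhEquiv _ 2).toEquiv.subsingleton

/-- `h⁰(A ⊠ B) = h⁰(A) h⁰(B)`. -/
theorem finrank_h0_box [C.Over (Spec (CommRingCat.of k))] (hp : C ↘ Spec (CommRingCat.of k) = p)
    [(pullback p p).Over (Spec (CommRingCat.of k))]
    (hq : (pullback p p) ↘ Spec (CommRingCat.of k) = pullback.fst p p ≫ p)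
    (hA : Framed P A) (hB : Framed P B) :
    Module.finrank k (Coh.HH (pullback p p) (boxMod p A B) 0) =
      Module.finrank k (Coh.HH C A 0) * Module.finrank k (Coh.HH C B 0) := by
  subst hp
  letI := kmod (C ↘ Spec (CommRingCat.of k)) A ⊤
  letI := kmod (C ↘ Spec (CommRingCat.of k)) B ⊤
  letI := kmod (pullback.fst _ _ ≫ (C ↘ Spec (CommRingCat.of k))) (boxMod (C ↘ Spec (CommRingCat.of k)) A B) ⊤
  have hsec : ∀ (M : C.Modules),
      letI := kmod (C ↘ Spec (CommRingCat.of k)) M ⊤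
      Module.finrank k Γ(M, ⊤) = Module.finrank k (Coh.HH C M 0) := fun M =>
    letI := kmod (C ↘ Spec (CommRingCat.of k)) M ⊤
    (LinearEquiv.finrank_eq
      { Crv77.sec M with
        map_smul' := fun r x => (Crv77.sec_smul k M r x).trans
          (congrArg (· • Crv77.sec M x) (cst_top _ r).symm) }).symm
  have hbox : box (C ↘ Spec (CommRingCat.of k)) ⊤ ⊤ = ⊤ := box_top _
  let β := (resA (boxMod (C ↘ Spec (CommRingCat.of k)) A B) hbox.ge).comp
    (beta (C ↘ Spec (CommRingCat.of k)) A B ⊤ ⊤)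
  have hβ : Function.Bijective β := by
    refine Function.Bijective.comp (g := resA (boxMod (C ↘ Spec (CommRingCat.of k)) A B) hbox.ge)
      ⟨?_, fun y => ⟨resA _ hbox.le y, ?_⟩⟩ (bijective_beta_top _ A B P hA hB)
    · intro u v huv
      have := congrArg (resA _ hbox.le) huv
      rwa [resA_resA, resA_resA, resA_apply, resA_apply, Amp73.res_self, Amp73.res_self] at this
    · rw [resA_resA, resA_apply, Amp73.res_self]
  let Φ : Γ(A, ⊤) ⊗[k] Γ(B, ⊤) →ₗ[k] Γ(boxMod (C ↘ Spec (CommRingCat.of k)) A B, ⊤) :=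
    { toFun := fun x => β x
      map_add' := map_add β
      map_smul' := fun r x => by
        induction x using TensorProduct.induction_on with
        | zero => simp only [smul_zero, map_zero]
        | tmul s t =>
          show res _ hbox.ge (boxS _ A B (cst (C ↘ Spec (CommRingCat.of k)) ⊤ r • s) t) =
            cst (pullback.fst (C ↘ Spec (CommRingCat.of k)) (C ↘ Spec (CommRingCat.of k)) ≫ (C ↘ Spec (CommRingCat.of k))) ⊤ r • res _ hbox.ge (boxS _ A B s t)
          rw [boxS_smul_left, appLE_cst, res_smul, cst_res]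
        | add x y hx hy =>
          simp only [RingHom.id_apply] at hx hy ⊢
          rw [smul_add, map_add, hx, hy, map_add, smul_add] }
  rw [← hsec A, ← hsec B, ← Module.finrank_tensorProduct,
    (LinearEquiv.ofBijective Φ hβ).finrank_eq]
  exact LinearEquiv.finrank_eq
    { Crv77.sec (boxMod (C ↘ Spec (CommRingCat.of k)) A B) with
      map_smul' := fun r x => (Crv77.sec_smul k _ r x).trans
        (congrArg (· • Crv77.sec (boxMod (C ↘ Spec (CommRingCat.of k)) A B) x)
          ((cst_top _ r).symm.trans (by rw [hq]; rfl))) }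

end Groth.Agent.HypSq53
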