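import Groth.Agent.HypSq53.Setting
import Groth.Agent.HypSq53.Kunneth
import Groth.Agent.Crv77.HH

/-! The classes `p₁^*L^a ⊗ p₂^*L^b` for large exponents. -/

set_option autoImplicit false
set_option backward.isDefEq.respectTransparency.types false
set_option linter.style.haveILetI false

universe u

open CategoryTheory CategoryTheory.Limits AlgebraicGeometry TopologicalSpace Opposite FunFld
open Groth.Agent.Var76.LineBundle Groth.Agent.Var76.ProjCoord

open scoped Groth.Agent.FGA29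

noncomputable section

namespace Groth.Agent.HypSq53

attribute [local instance] CrvPic30.ffAlg

section Frames

variable {k : Type u} [Field k] {C : Scheme.{u}}

theorem exists_frame_pow {L : C.Modules} {U : C.Opens} {e : Γ(L, U)} (he : IsFrame L U e) :
    ∀ n : ℕ, ∃ e' : Γ(CohB1.tensorPow L n, U), IsFrame (CohB1.tensorPow L n) U e'
  | 0 => ⟨show Γ(Coh.structureModule C, U) from (1 : Γ(C, U)), fun V hV => by
      have h1 : ∀ a : Γ(C, V), a • res (Coh.structureModule C) hV (show Γ(Coh.structureModule C, U) from (1 : Γ(C, U))) =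
          (show Γ(Coh.structureModule C, V) from a) := fun a => by
        show a * C.presheaf.map (homOfLE hV).op 1 = a
        rw [map_one, mul_one]
      exact ⟨fun a b hab => (h1 a).symm.trans (hab.trans (h1 b)), fun y => ⟨y, h1 y⟩⟩⟩
  | n + 1 => by
    obtain ⟨e', he'⟩ := exists_frame_pow he n
    exact ⟨_, Amp73.isFrame_tm he' he⟩

variable (κ : C ⟶ CohB1.ProjSpace 1 k)

theorem exists_frame_Lh (i : Fin 2) (n : ℕ) :
    ∃ e : Γ(CohB1.tensorPow (Lh κ) n, κ ⁻¹ᵁ U k 1 i),
      IsFrame (CohB1.tensorPow (Lh κ) n) (κ ⁻¹ᵁ U k 1 i) e :=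
  exists_frame_pow (isFrame_coordSect κ i) n

end Frames

variable {k : Type u} [Field k] [IsAlgClosed k] {C : Scheme.{u}} [C.Over (Spec (CommRingCat.of k))]
  [IsProper (C ↘ Spec (CommRingCat.of k))]
  [IsIntegral C] {h : CrvPic30.Setup k C} {κ : C ⟶ CohB1.ProjSpace 1 k} [IsFinite κ] {g : ℕ}
  {D : Divisor k C.functionField}

omit [IsAlgClosed k] [C.Over (Spec (CommRingCat.of k))] [IsProper (C ↘ Spec (CommRingCat.of k))] [IsIntegral C] in
theorem framed_pow (n : ℕ) : Framed (cpair κ) (CohB1.tensorPow (Lh κ) n) :=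
  ⟨EGA73.isInvertible_tensorPow (isInvertible_Lh κ) n, exists_frame_Lh κ 0 n, exists_frame_Lh κ 1 n⟩

omit [IsAlgClosed k] [IsProper (C ↘ Spec (CommRingCat.of k))] [IsIntegral C] [IsFinite κ] in
theorem isQuasicoherent_boxPow (a b : ℕ) :
    (boxMod (C ↘ Spec (CommRingCat.of k)) (CohB1.tensorPow (Lh κ) a) (CohB1.tensorPow (Lh κ) b)).IsQuasicoherent :=
  (Amp73.isCoh_of_isInvertible (EGA73.isInvertible_tensorMod
    (Amp73.isInvertible_pullback _ (EGA73.isInvertible_tensorPow (isInvertible_Lh κ) a))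
    (Amp73.isInvertible_pullback _ (EGA73.isInvertible_tensorPow (isInvertible_Lh κ) b)))).1

omit [IsProper (C ↘ Spec (CommRingCat.of k))] [IsFinite κ] in
theorem Double.h1_pow_zero (hD : Double h κ g D) {a : ℕ} (ha : g ≤ a) :
    Subsingleton (Coh.HH C (CohB1.tensorPow (Lh κ) a) 1) := by
  obtain ⟨e⟩ := hD.tensorPow_iso a
  have := hD.h1_zero (s := (a : ℤ)) (by omega)
  exact (Crv77.hEquiv k e 1).toEquiv.subsingleton

omit [IsProper (C ↘ Spec (CommRingCat.of k))] [IsFinite κ] in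
theorem Double.h0_pow (hD : Double h κ g D) {a : ℕ} (ha : g ≤ a) :
    (Module.finrank k (Coh.HH C (CohB1.tensorPow (Lh κ) a) 0) : ℤ) = 2 * a + 1 - g := by
  have := h.isNoetherian
  obtain ⟨e⟩ := hD.tensorPow_iso a
  have := hD.h1_pow_zero ha
  have h1 := hD.euler_eq (a : ℤ)
  rw [← Crv77.euler_congr (k := k) e, h.curveCoh.euler_eq (Amp73.isCoh_of_isInvertible
    (EGA73.isInvertible_tensorPow (isInvertible_Lh κ) a))] at h1
  simp only [Crv77.h] at h1
  rw [Module.finrank_zero_of_subsingleton (M := Coh.HH C (CohB1.tensorPow (Lh κ) a) 1)] at h1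
  omega

omit [IsProper (C ↘ Spec (CommRingCat.of k))] in
theorem Double.subsingleton_boxPow (hD : Double h κ g D) {a b : ℕ} (ha : g ≤ a) (hb : g ≤ b) :
    Subsingleton (Coh.HH _ (boxMod (C ↘ Spec (CommRingCat.of k)) (CohB1.tensorPow (Lh κ) a)
        (CohB1.tensorPow (Lh κ) b)) 1) ∧
      Subsingleton (Coh.HH _ (boxMod (C ↘ Spec (CommRingCat.of k)) (CohB1.tensorPow (Lh κ) a)
        (CohB1.tensorPow (Lh κ) b)) 2) := by
  have := isQuasicoherent_boxPow (k := k) (κ := κ) a b
  exact subsingleton_HH_box _ _ _ (cpair κ) (framed_pow a) (framed_pow b) (hD.h1_pow_zero ha) (hD.h1_pow_zero hb)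

omit [IsProper (C ↘ Spec (CommRingCat.of k))] in
theorem Double.finrank_h0_boxPow (hD : Double h κ g D) {a b : ℕ} (ha : g ≤ a) (hb : g ≤ b) :
    letI := sqOver k C
    (Module.finrank k (Coh.HH _ (boxMod (C ↘ Spec (CommRingCat.of k)) (CohB1.tensorPow (Lh κ) a)
        (CohB1.tensorPow (Lh κ) b)) 0) : ℤ) = (2 * a + 1 - g) * (2 * b + 1 - g) := by
  letI := sqOver k C
  rw [finrank_h0_box (C ↘ Spec (CommRingCat.of k)) _ _ (cpair κ) rfl rfl (framed_pow a) (framed_pow b),
    Nat.cast_mul, hD.h0_pow ha, hD.h0_pow hb]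

theorem Double.euler_boxPow (hD : Double h κ g D) {a b : ℕ} (ha : g ≤ a) (hb : g ≤ b) :
    letI := sqOver k C
    Curv2.euler k (pullback (C ↘ Spec (CommRingCat.of k)) (C ↘ Spec (CommRingCat.of k)))
      (boxMod (C ↘ Spec (CommRingCat.of k)) (CohB1.tensorPow (Lh κ) a) (CohB1.tensorPow (Lh κ) b)) =
        (2 * a + 1 - g) * (2 * b + 1 - g) := by
  letI := sqOver k C
  have : IsProper ((pullback (C ↘ Spec (CommRingCat.of k)) (C ↘ Spec (CommRingCat.of k))) ↘ Spec (CommRingCat.of k)) :=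
    isProper_square
  have := isQuasicoherent_boxPow (k := k) (κ := κ) a b
  obtain ⟨h1, h2⟩ := hD.subsingleton_boxPow ha hb
  have hb' : Crv77.FinBdd k (boxMod (C ↘ Spec (CommRingCat.of k)) (CohB1.tensorPow (Lh κ) a)
      (CohB1.tensorPow (Lh κ) b)) 3 :=
    ⟨fun n => Serre71.finite_hh_of_isProper k _ (Amp73.isCoh_of_isInvertible (EGA73.isInvertible_tensorMod
      (Amp73.isInvertible_pullback _ (EGA73.isInvertible_tensorPow (isInvertible_Lh κ) a))
      (Amp73.isInvertible_pullback _ (EGA73.isInvertible_tensorPow (isInvertible_Lh κ) b)))) n,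
      fun n hn => subsingleton_HH _ (cpair κ) _ n hn⟩
  rw [hb'.euler_eq, Finset.sum_range_succ, Finset.sum_range_succ, Finset.sum_range_succ, Finset.sum_range_zero,
    Module.finrank_zero_of_subsingleton (M := Coh.HH _ _ 1), Module.finrank_zero_of_subsingleton (M := Coh.HH _ _ 2),
    hD.finrank_h0_boxPow ha hb]
  simp

end Groth.Agent.HypSq53
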