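import Groth.Agent.HypSq53.Invol
import Groth.Agent.HypSq53.Box
import Groth.Agent.Var76.HypSection

/-! The two charts of the double cover. -/

set_option autoImplicit false
set_option backward.isDefEq.respectTransparency.types false
set_option linter.style.haveILetI false

universe u

open CategoryTheory CategoryTheory.Limits AlgebraicGeometry TopologicalSpace Opposite FunFld IntermediateField
open Groth.Agent.Var76.LineBundle Groth.Agent.Var76.ProjCoord

noncomputable section

namespace Groth.Agent.HypSq53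

attribute [local instance] CrvPic30.ffAlg

variable {k : Type u} [Field k] {C : Scheme.{u}}

section Coordinates

variable (κ : C ⟶ CohB1.ProjSpace 1 k)

/-- The preimage of a standard chart. -/
abbrev chartOpen (i : Fin 2) : C.Opens := κ ⁻¹ᵁ U k 1 i

/-- The coordinate `X_j / X_i` on a chart. -/
abbrev zz (i j : Fin 2) : Γ(C, chartOpen κ i) := coord κ i (X₁ k 1 j)

/-- The frame of `κ^*O(1)` on a chart. -/
abbrev chartFrame (i : Fin 2) : Γ(Lh κ, chartOpen κ i) :=
  res (Lh κ) (κ.preimage_mono (le_top : U k 1 i ≤ ⊤)) (coordSect κ i)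

theorem res_coordSect (i j : Fin 2) :
    res (Lh κ) (κ.preimage_mono (le_top : U k 1 i ≤ ⊤)) (coordSect κ j) = zz κ i j • chartFrame κ i :=
  (coordSect_smul κ i j).symm

theorem mem_chartOpen {i j : Fin 2} {x : C} (hx : x ∈ C.basicOpen (zz κ i j)) : x ∈ chartOpen κ j :=
  Var76.HypSection.notMem_ideal_of_mem_basicOpen κ i (X₁ k 1 j) hx

theorem zz_mul (i j : Fin 2) :
    C.presheaf.map (homOfLE (inf_le_left : chartOpen κ i ⊓ chartOpen κ j ≤ chartOpen κ i)).op (zz κ i j) *
      C.presheaf.map (homOfLE (inf_le_right : chartOpen κ i ⊓ chartOpen κ j ≤ chartOpen κ j)).op (zz κ j i) = 1 := by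
  set a : Γ(C, chartOpen κ i ⊓ chartOpen κ j) := C.presheaf.map (homOfLE inf_le_left).op (zz κ i j)
  set b : Γ(C, chartOpen κ i ⊓ chartOpen κ j) := C.presheaf.map (homOfLE inf_le_right).op (zz κ j i)
  have h1 := congrArg (res (Lh κ) (inf_le_left : chartOpen κ i ⊓ chartOpen κ j ≤ _)) (res_coordSect κ i j)
  have h2 := congrArg (res (Lh κ) (inf_le_right : chartOpen κ i ⊓ chartOpen κ j ≤ _)) (res_coordSect κ j i)
  rw [res_res, res_smul, res_res] at h1 h2
  refine (isFrame_coordSect κ i (chartOpen κ i ⊓ chartOpen κ j) inf_le_left).1 ?_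
  show (a * b) • _ = (1 : Γ(C, chartOpen κ i ⊓ chartOpen κ j)) • _
  rw [one_smul, mul_comm, mul_smul, res_res]
  exact (congrArg (b • ·) h1.symm).trans h2.symm

variable {κ}

theorem preimage_chartOpen {σ : C ⟶ C} (hσ : σ ≫ κ = κ) (i : Fin 2) :
    σ ⁻¹ᵁ chartOpen κ i = chartOpen κ i := by
  rw [← Scheme.Hom.comp_preimage, hσ]

theorem appLE_zz {σ : C ⟶ C} (hσ : σ ≫ κ = κ) (i j : Fin 2) :
    σ.appLE (chartOpen κ i) (chartOpen κ i) (preimage_chartOpen hσ i).ge (zz κ i j) = zz κ i j := by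
  have h1 : κ.app (U k 1 i) ≫ σ.appLE (chartOpen κ i) (chartOpen κ i) (preimage_chartOpen hσ i).ge =
      κ.app (U k 1 i) := by
    rw [Scheme.Hom.app_eq_appLE, Scheme.Hom.appLE_comp_appLE]
    simp only [hσ]
  exact congr($h1 _)

end Coordinates

variable [C.Over (Spec (CommRingCat.of k))] [IsIntegral C] [IsIntegral (CohB1.ProjSpace 1 k)]

theorem germ_app_eq_ffMap {σ : C ⟶ C} (es : σ (genericPoint C) = genericPoint C) {U V : C.Opens}
    (e : V ≤ σ ⁻¹ᵁ U) (hU : genericPoint C ∈ U) (hV : genericPoint C ∈ V) (s : Γ(C, U)) :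
    C.presheaf.germ V (genericPoint C) hV (σ.appLE U V e s) =
      Crv77.ffMap σ es (C.presheaf.germ U (genericPoint C) hU s) := by
  rw [Crv77.ffMap, CommRingCat.comp_apply, TopCat.Presheaf.germ_stalkSpecializes_apply,
    Scheme.Hom.germ_stalkMap_apply, Scheme.Hom.appLE, CommRingCat.comp_apply, TopCat.Presheaf.germ_res_apply]

omit [IsIntegral (CohB1.ProjSpace 1 k)] in
theorem germ_cst {U : C.Opens} (hU : genericPoint C ∈ U) (r : k) :
    C.presheaf.germ U (genericPoint C) hU (cst (C ↘ Spec (CommRingCat.of k)) U r) =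
      algebraMap k C.functionField r := by
  rw [Crv77.ffAlg_eq]
  exact Var76.VarDim.germ_const (k := k) hU r

omit [IsIntegral (CohB1.ProjSpace 1 k)] in
theorem germ_eval₂ {U : C.Opens} (hU : genericPoint C ∈ U) (P : Polynomial k) (sw : Γ(C, U)) :
    C.presheaf.germ U (genericPoint C) hU (P.eval₂ (cst (C ↘ Spec (CommRingCat.of k)) U).hom sw) =
      Polynomial.aeval (C.presheaf.germ U (genericPoint C) hU sw) P := by
  rw [Polynomial.hom_eval₂, Polynomial.aeval_def]
  exact congrArg (fun f : k →+* C.functionField => P.eval₂ f _) (RingHom.ext (germ_cst hU))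

variable {h : CrvPic30.Setup k C}

/-- Every function regular where `w` is regular is `P(w) + Q(w) y`. -/
theorem exists_gen {U : C.Opens} {w y : C.functionField} (hU : U = Crv77.regOpen w)
    (hw : Module.finrank k⟮w⟯ C.functionField = 2) (hy : y ∉ k⟮w⟯)
    (hyL : y ∈ L ((genus k C.functionField + 1) • (FF30.poleDiv w : Divisor k C.functionField)))
    (hg : genericPoint C ∈ U) (sw : Γ(C, U)) (hsw : C.presheaf.germ U (genericPoint C) hg sw = w)
    (h : CrvPic30.Setup k C) :
    ∃ sy : Γ(C, U), C.presheaf.germ U (genericPoint C) hg sy = y ∧ ∀ s : Γ(C, U), ∃ P Q : Polynomial k,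
      s = P.eval₂ (cst (C ↘ Spec (CommRingCat.of k)) U).hom sw +
        Q.eval₂ (cst (C ↘ Spec (CommRingCat.of k)) U).hom sw * sy := by
  classical
  subst hU
  obtain ⟨sy, hsy⟩ := Curves2.exists_section_of_regAt (Crv77.regOpen w) hg y
    fun _ hx => Crv77.regAt_of_mem_L h hw hyL hx
  refine ⟨sy, hsy, fun s => ?_⟩
  let G := C.presheaf.germ (Crv77.regOpen w) (genericPoint C) hg
  have hv : ∀ p : Place k C.functionField, p.1 w ≤ 1 → p.1 (G s) ≤ 1 := by
    intro p hp
    obtain ⟨x, rfl⟩ := h.place.surjective p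
    refine (h.mem_range_germ_iff (Crv77.regOpen w) hg (G s)).1 ⟨s, rfl⟩ x.1 x.2 ?_
    exact (h.regAt_iff x.1 w).2 fun _ => hp
  obtain ⟨n, hn⟩ : ∃ n : ℕ, G s ∈ L (n • (FF30.poleDiv w : Divisor k C.functionField)) := by
    refine ⟨∑ p ∈ (FF30.poleDiv w : Divisor k C.functionField).support, (-p.ord (G s)).toNat, ?_⟩
    rw [Crv77.DL.mem_L_nsmul_iff h.ff]
    intro p
    by_cases hp : p.1 w ≤ 1
    · exact (hv p hp).trans (by rw [← WithZero.exp_zero, WithZero.exp_le_exp]; exact mul_nonneg (by positivity) (le_max_right _ _))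
    · have hneg : p.ord w < 0 := (FF30.one_lt_val_iff p).1 (not_le.1 hp)
      by_cases hs0 : G s = 0
      · rw [hs0, map_zero]; exact zero_le
      rw [FF30.val_le_exp_iff p hs0, max_eq_left (by omega)]
      have hmem : p ∈ (FF30.poleDiv w : Divisor k C.functionField).support := by
        rw [Finsupp.mem_support_iff, h.ffield.poleDiv_apply]
        omega
      have h1 := Finset.single_le_sum (f := fun q : Place k C.functionField => (-q.ord (G s)).toNat)
        (fun _ _ => Nat.zero_le _) hmem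
      have h2 : ((-p.ord (G s)).toNat : ℤ) ≤ ((∑ q ∈ (FF30.poleDiv w : Divisor k C.functionField).support,
        (-q.ord (G s)).toNat : ℕ) : ℤ) := by exact_mod_cast h1
      have h3 : -p.ord (G s) ≤ ((-p.ord (G s)).toNat : ℤ) := Int.self_le_toNat _
      nlinarith
  obtain ⟨P, -, Q, -, hab⟩ := Crv77.DL.exists_repr h.ff hw hy hyL hn
  have hG : Function.Injective G := germ_injective_of_isIntegral C (genericPoint C) hg
  refine ⟨P, Q, hG ?_⟩
  rw [map_add, map_mul]
  show _ = C.presheaf.germ _ _ hg _ + C.presheaf.germ _ _ hg _ * C.presheaf.germ _ _ hg sy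
  rw [germ_eval₂, germ_eval₂, hsw, hsy]
  exact hab

variable {κ : C ⟶ CohB1.ProjSpace 1 k} {σ : C ⟶ C}
  {e : κ (genericPoint C) = genericPoint (CohB1.ProjSpace 1 k)} {es : σ (genericPoint C) = genericPoint C}
  {y : C.functionField} {R : Polynomial k}

omit [C.Over (Spec (CommRingCat.of k))] in
theorem generic_mem_chartOpen (e : κ (genericPoint C) = genericPoint (CohB1.ProjSpace 1 k)) (i : Fin 2) :
    genericPoint C ∈ chartOpen κ i := by
  show κ (genericPoint C) ∈ U k 1 i
  rw [e]
  exact (genericPoint_spec (CohB1.ProjSpace 1 k)).mem_open_set_iff (U k 1 i).2 |>.2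
    ⟨_, Set.mem_univ _, (Proj.opensRange_awayι (CohB1.polyGrading 1 k) (MvPolynomial.X i) (X₁ k 1 i).2 one_pos).le
      ⟨(Spec.map (CommRingCat.ofHom (Curves2.ProjModel.evalAway k ![(1 : k), 1] _
        (Curves2.ProjModel.aeval_X_ne_zero k ![(1 : k), 1] (fun l => by fin_cases l <;> simp) i))))
        (IsLocalRing.closedPoint k), rfl⟩⟩

omit [C.Over (Spec (CommRingCat.of k))] in
theorem germ_zz_zero (e : κ (genericPoint C) = genericPoint (CohB1.ProjSpace 1 k)) :
    C.presheaf.germ _ (genericPoint C) (generic_mem_chartOpen e 0) (zz κ 0 1) = Crv77.ffMap κ e (Crv77.tP k) := by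
  rw [Crv77.ffMap, Crv77.tP]
  show _ = _
  rw [CommRingCat.comp_apply, TopCat.Presheaf.germ_stalkSpecializes_apply, Scheme.Hom.germ_stalkMap_apply]
  exact congrArg (fun a => C.presheaf.germ _ _ (generic_mem_chartOpen e 0) (κ.app _ a))
    (Polynomial.eval₂_X _ _).symm

omit [C.Over (Spec (CommRingCat.of k))] in
theorem germ_zz_one (e : κ (genericPoint C) = genericPoint (CohB1.ProjSpace 1 k)) :
    C.presheaf.germ _ (genericPoint C) (generic_mem_chartOpen e 1) (zz κ 1 0) * Crv77.ffMap κ e (Crv77.tP k) = 1 := by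
  have hg : genericPoint C ∈ chartOpen κ 0 ⊓ chartOpen κ 1 :=
    ⟨generic_mem_chartOpen e 0, generic_mem_chartOpen e 1⟩
  have h1 := congrArg (C.presheaf.germ _ (genericPoint C) hg) (zz_mul κ 0 1)
  rw [map_mul, map_one, TopCat.Presheaf.germ_res_apply, TopCat.Presheaf.germ_res_apply, mul_comm] at h1
  rw [← germ_zz_zero e]
  exact h1

omit [C.Over (Spec (CommRingCat.of k))] in
theorem chartOpen_one_eq
    (e : κ (genericPoint C) = genericPoint (CohB1.ProjSpace 1 k)) :
    chartOpen κ 1 = Crv77.regOpen (Crv77.ffMap κ e (Crv77.tP k))⁻¹ := by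
  have h1 := germ_zz_one e
  set z := Crv77.ffMap κ e (Crv77.tP k) with hzdef
  refine Opens.ext (Set.ext fun x => ⟨fun hx => ?_, fun hx => ?_⟩)
  · refine ⟨C.presheaf.germ _ x hx (zz κ 1 0), ?_⟩
    rw [Curves2.algebraMap_germ]
    exact eq_inv_of_mul_eq_one_left h1
  · by_contra hx1
    have hx0 : x ∈ chartOpen κ 0 := by
      obtain ⟨j, hj⟩ := exists_mem_U k 1 (κ x)
      fin_cases j
      · exact hj
      · exact absurd hj hx1
    obtain ⟨b, hb⟩ := hx
    refine hx1 (mem_chartOpen κ (i := 0) (j := 1) ((C.mem_basicOpen _ x hx0).2 ?_))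
    refine IsUnit.of_mul_eq_one b (IsFractionRing.injective (C.presheaf.stalk x) C.functionField ?_)
    rw [map_mul, map_one, hb, Curves2.algebraMap_germ]
    refine (congrArg (· * z⁻¹) (germ_zz_zero e)).trans (mul_inv_cancel₀ fun h0 => ?_)
    rw [show z = 0 from h0, mul_zero] at h1
    exact zero_ne_one h1

/-- The ring of a chart is generated by the coordinate and an anti-invariant element. -/
theorem Coord.exists_anti (h2 : (2 : k) ≠ 0) (hκ : κ ≫ CohB1.ProjSpace.toSpec 1 k = C ↘ Spec (CommRingCat.of k))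
    (hσ : σ ≫ κ = κ) (hσp : σ ≫ (C ↘ Spec (CommRingCat.of k)) = C ↘ Spec (CommRingCat.of k))
    (hc : Coord h κ σ e es y R) (i : Fin 2) :
    ∃ sy : Γ(C, chartOpen κ i), sy ≠ 0 ∧
      σ.appLE (chartOpen κ i) (chartOpen κ i) (preimage_chartOpen hσ i).ge sy = -sy ∧
      ∀ s : Γ(C, chartOpen κ i), ∃ P Q : Polynomial k,
        s = P.eval₂ (cst (C ↘ Spec (CommRingCat.of k)) (chartOpen κ i)).hom (zz κ i (i + 1)) +
          Q.eval₂ (cst (C ↘ Spec (CommRingCat.of k)) (chartOpen κ i)).hom (zz κ i (i + 1)) * sy := by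
  set z := Crv77.ffMap κ e (Crv77.tP k) with hzdef
  let τ : C.functionField →ₐ[k] C.functionField :=
    { Crv77.ffMap σ es with commutes' := Crv77.ffMap_over hσp es }
  have h2K : (2 : C.functionField) ≠ 0 := by
    rw [← map_ofNat (algebraMap k C.functionField) 2]; exact (map_ne_zero _).2 h2
  have hy0 : y ≠ 0 := fun h0 => hc.not_mem (h0 ▸ zero_mem _)
  have main : ∀ (w y' : C.functionField) (hg : genericPoint C ∈ chartOpen κ i),
      chartOpen κ i = Crv77.regOpen w → C.presheaf.germ _ _ hg (zz κ i (i + 1)) = w →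
      Module.finrank k⟮w⟯ C.functionField = 2 → y' ∉ k⟮w⟯ →
      y' ∈ L ((genus k C.functionField + 1) • (FF30.poleDiv w : Divisor k C.functionField)) →
      τ y' = -y' →
    ∃ sy : Γ(C, chartOpen κ i), sy ≠ 0 ∧
      σ.appLE (chartOpen κ i) (chartOpen κ i) (preimage_chartOpen hσ i).ge sy = -sy ∧
      ∀ s : Γ(C, chartOpen κ i), ∃ P Q : Polynomial k,
        s = P.eval₂ (cst (C ↘ Spec (CommRingCat.of k)) (chartOpen κ i)).hom (zz κ i (i + 1)) +
          Q.eval₂ (cst (C ↘ Spec (CommRingCat.of k)) (chartOpen κ i)).hom (zz κ i (i + 1)) * sy := by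
    intro w y' hg hU hsw hw hy' hyL hτ
    obtain ⟨sy, hsy, hgen⟩ := exists_gen hU hw hy' hyL hg _ hsw h
    refine ⟨sy, fun h0 => hy' ?_, germ_injective_of_isIntegral C (genericPoint C) hg ?_, hgen⟩
    · rw [← hsy, h0, map_zero]; exact zero_mem _
    · rw [map_neg, germ_app_eq_ffMap es _ hg hg, hsy]
      exact hτ
  fin_cases i
  · exact main z y (generic_mem_chartOpen e 0) (Crv77.preimage_chart h κ hκ e) (germ_zz_zero e) hc.finrank
      hc.not_mem hc.mem_L hc.map_y
  · have hw1 : C.presheaf.germ _ _ (generic_mem_chartOpen e 1) (zz κ 1 0) = z⁻¹ :=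
      eq_inv_of_mul_eq_one_left (germ_zz_one e)
    have hadj : k⟮z⁻¹⟯ = k⟮z⟯ := le_antisymm
      (adjoin_simple_le_iff.2 (inv_mem (mem_adjoin_simple_self k z)))
      (adjoin_simple_le_iff.2 (by simpa using inv_mem (mem_adjoin_simple_self k z⁻¹)))
    have hw : Module.finrank k⟮z⁻¹⟯ C.functionField = 2 := by rw [hadj]; exact hc.finrank
    obtain ⟨y₀, hy₀, hy₀L⟩ := Crv77.DL.exists_gen h.ff hw
    obtain ⟨P, Q, hPQ, -, hQ⟩ := Crv77.DL.exists_equation h.ff hw hy₀ hy₀L
    let q : Polynomial k := Polynomial.C (2⁻¹ : k) * Q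
    let y' := y₀ + Polynomial.aeval z⁻¹ q
    have hqz : Polynomial.aeval z⁻¹ q ∈ k⟮z⁻¹⟯ :=
      algebra_adjoin_le_adjoin k _ (Polynomial.aeval_mem_adjoin_singleton k z⁻¹)
    have hy' : y' ∉ k⟮z⁻¹⟯ := fun hm => hy₀ (by simpa [y'] using sub_mem hm hqz)
    have hyL : y' ∈ L ((genus k C.functionField + 1) • (FF30.poleDiv z⁻¹ : Divisor k C.functionField)) := by
      refine Submodule.add_mem _ hy₀L (Crv77.DL.aeval_mem_L h.ff (Polynomial.mem_degreeLE.2 ?_))
      exact Polynomial.degree_le_of_natDegree_le ((Polynomial.natDegree_C_mul_le _ _).trans hQ)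
    have h2k : algebraMap k C.functionField 2⁻¹ * 2 = 1 := by
      rw [← map_ofNat (algebraMap k C.functionField) 2, ← map_mul, inv_mul_cancel₀ h2, map_one]
    have hy2 : y' ^ 2 = Polynomial.aeval z⁻¹ (P + q ^ 2) := by
      simp only [y', q, map_add, map_pow, map_mul, Polynomial.aeval_C]
      linear_combination hPQ + y₀ * Polynomial.aeval z⁻¹ Q * h2k
    have hτz : τ z⁻¹ = z⁻¹ := by
      show Crv77.ffMap σ es z⁻¹ = z⁻¹
      rw [map_inv₀, hc.map_z]
    refine main z⁻¹ y' (generic_mem_chartOpen e 1) (chartOpen_one_eq e) hw1 hw hy' hyL ?_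
    have hsq : τ y' * τ y' = y' * y' := by
      rw [← map_mul, ← pow_two, hy2, ← Polynomial.aeval_algHom_apply, hτz]
    refine (mul_self_eq_mul_self_iff.1 hsq).resolve_left fun hfix => ?_
    have hτy : τ y = y := by
      suffices H : ∀ v ∈ IntermediateField.adjoin k ({z⁻¹, y'} : Set C.functionField), τ v = v by
        exact H y (by rw [Crv77.DL.adjoin_eq_top h.ff hw hy']; trivial)
      clear_value y'
      intro v hv
      induction hv using IntermediateField.adjoin_induction with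
      | mem a ha =>
        rcases ha with rfl | rfl
        · exact hτz
        · exact hfix
      | algebraMap a => exact τ.commutes a
      | add a b _ _ ha hb => rw [map_add, ha, hb]
      | mul a b _ _ ha hb => rw [map_mul, ha, hb]
      | inv a _ ha => rw [map_inv₀, ha]
    have h3 : y + y = 0 := by
      nth_rw 1 [← hτy]
      rw [show τ y = -y from hc.map_y, neg_add_cancel]
    rw [← two_mul] at h3
    exact hy0 ((mul_eq_zero.1 h3).resolve_left h2K)

end Groth.Agent.HypSq53
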