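import Groth.Agent.Crv77.DoubleCurve
import Groth.Agent.Crv77.Hyper
import Groth.Agent.Crv77.FunDeg
import Groth.Agent.Crv77.RatPoint
import Groth.Agent.CrvPic30.Omega
import Groth.Agent.CrvPic30.Canonical
import Groth.Agent.CrvPic30.Clifford
import Groth.Agent.Var76.ProjCoord
import Groth.Agent.Amp73.PullTensor

/-! A double cover of the line: the pullback of `O(1)` and its powers. -/

set_option autoImplicit false
set_option linter.style.haveILetI false

universe u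

open CategoryTheory CategoryTheory.Limits AlgebraicGeometry TopologicalSpace Opposite FunFld
open Groth.Agent.Var76.LineBundle Groth.Agent.Var76.ProjCoord

noncomputable section

namespace Groth.Agent.HypSq53

attribute [local instance] CrvPic30.ffAlg

variable {k : Type u} [Field k] {C : Scheme.{u}} [C.Over (Spec (CommRingCat.of k))]

theorem isIntegral_curve [IsProper (C ↘ Spec (CommRingCat.of k))] [Smooth (C ↘ Spec (CommRingCat.of k))]
    [ConnectedSpace C] : IsIntegral C := by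
  have := Crv77.isNoetherian_of_proper k C
  exact Crv77.isIntegral_of_connected_normal fun x =>
    Curves2.isIntegrallyClosed_stalk_of_smooth (C ↘ Spec (CommRingCat.of k)) x

/-- The pullback of `O(1)`. -/
abbrev Lh (κ : C ⟶ CohB1.ProjSpace 1 k) : C.Modules :=
  (Scheme.Modules.pullback κ).obj (Twist.twistProjSpace 1 k 1)

theorem isInvertible_O1 : PicF.IsInvertible (Twist.twistProjSpace 1 k 1) := by
  exact Mero90.isInvertible_of_frames fun x => by
    obtain ⟨j, hj⟩ := exists_mem_U k 1 x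
    exact ⟨U k 1 j, hj, _, Var76.ProjFrame.isFrame (CohB1.polyGrading 1 k) (X₁ k 1 j)⟩

omit [C.Over (Spec (CommRingCat.of k))] in
theorem isInvertible_Lh (κ : C ⟶ CohB1.ProjSpace 1 k) : PicF.IsInvertible (Lh κ) :=
  Amp73.isInvertible_pullback κ isInvertible_O1

/-- The coordinate sections, pulled back. -/
def coordSect (κ : C ⟶ CohB1.ProjSpace 1 k) (i : Fin 2) : Γ(Lh κ, κ ⁻¹ᵁ ⊤) :=
  Amp73.pullS κ (Twist.twistProjSpace 1 k 1) ⊤ (Var76.ProjFrame.sect (CohB1.polyGrading 1 k) (X₁ k 1 i))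

omit [C.Over (Spec (CommRingCat.of k))] in
theorem isFrame_coordSect (κ : C ⟶ CohB1.ProjSpace 1 k) (i : Fin 2) :
    IsFrame (Lh κ) (κ ⁻¹ᵁ U k 1 i) (res (Lh κ) (κ.preimage_mono (le_top : U k 1 i ≤ ⊤)) (coordSect κ i)) := by
  rw [coordSect, Amp73.res_pullS κ _ (le_top : U k 1 i ≤ ⊤)]
  exact Amp73.isFrame_pullS κ isInvertible_O1 (Var76.ProjFrame.isFrame _ (X₁ k 1 i))

omit [C.Over (Spec (CommRingCat.of k))] in
theorem coordSect_smul (κ : C ⟶ CohB1.ProjSpace 1 k) (i j : Fin 2) :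
    κ.app (U k 1 i) (Proj.awayToSection (CohB1.polyGrading 1 k) (MvPolynomial.X i) (frac k 1 i (X₁ k 1 j))) •
        res (Lh κ) (κ.preimage_mono (le_top : U k 1 i ≤ ⊤)) (coordSect κ i) =
      res (Lh κ) (κ.preimage_mono (le_top : U k 1 i ≤ ⊤)) (coordSect κ j) := by
  have h1 := Amp73.res_pullS κ (Twist.twistProjSpace 1 k 1) (le_top : U k 1 i ≤ ⊤)
  refine (congrArg (_ • ·) (h1 _)).trans ?_
  refine (Amp73.pullS_smul κ _ _ _ _).symm.trans ?_
  refine Eq.trans ?_ (h1 _).symm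
  exact congrArg (Amp73.pullS κ (Twist.twistProjSpace 1 k 1) (U k 1 i))
    (Var76.ProjFrame.away_smul_frame (CohB1.polyGrading 1 k) (X₁ k 1 i) (X₁ k 1 j))

variable [IsIntegral C]

theorem val_frame {h : CrvPic30.Setup k C} {D : Divisor k C.functionField} {U : C.Opens}
    (hU : genericPoint C ∈ U) {t : Γ(h.O D, U)} (ht : IsFrame (h.O D) U t) :
    CrvPic30.Setup.rval hU t ≠ 0 ∧ ∀ (y : C) (hy : IsClosed ({y} : Set C)), y ∈ U →
      (h.place ⟨y, hy⟩).1 (CrvPic30.Setup.rval hU t) = WithZero.exp (D (h.place ⟨y, hy⟩)) := by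
  have key : ∀ (y : C) (hy : IsClosed ({y} : Set C)), y ∈ U →
      WithZero.exp (D (h.place ⟨y, hy⟩)) ≤ (h.place ⟨y, hy⟩).1 (CrvPic30.Setup.rval hU t) := by
    intro y hy hyU
    obtain ⟨W, z, hyW, hz0, hz⟩ := h.exists_local_fun D y
    have hg : genericPoint C ∈ U ⊓ W := CrvPic30.gen_mem (y := y) ⟨hyU, hyW⟩
    obtain ⟨s, hs⟩ := CrvPic30.Setup.exists_rval_eq (h := h) (D := D) hg z
      fun y' hy' hy'W => (hz y' hy' hy'W.2).le
    obtain ⟨a, ha⟩ := (ht (U ⊓ W) inf_le_left).2 s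
    dsimp only at ha
    rw [← ha, CrvPic30.Setup.rval_smul, CrvPic30.Setup.rval_res hU inf_le_left hg] at hs
    rw [← hz y hy hyW, ← hs, map_mul]
    refine mul_le_of_le_one_left' ?_
    exact (h.place_le_one_iff ⟨y, hy⟩ _).2
      ⟨C.presheaf.germ (U ⊓ W) y ⟨hyU, hyW⟩ a, Curves2.algebraMap_germ y (⟨hyU, hyW⟩ : y ∈ U ⊓ W) a⟩
  refine ⟨fun h0 => ?_, fun y hy hyU => le_antisymm (CrvPic30.Setup.rval_le hU t y hy hyU) (key y hy hyU)⟩
  have h2 := (ht U le_rfl).1 (a₁ := (0 : Γ(C, U))) (a₂ := 1)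
  have : Nontrivial Γ(C, U) := ⟨⟨0, 1, fun e => zero_ne_one (α := C.functionField)
    ((map_zero _).symm.trans ((congrArg (C.presheaf.germ U (genericPoint C) hU) e).trans (map_one _)))⟩⟩
  refine zero_ne_one (h2 ?_)
  dsimp only
  refine CrvPic30.Setup.rval_injective hU ?_
  rw [CrvPic30.Setup.rval_smul, CrvPic30.Setup.rval_smul, CrvPic30.Setup.rval_res hU le_rfl hU, h0, mul_zero, mul_zero]

theorem mem_one_of_not_mem_zero (x : CohB1.ProjSpace 1 k) (hx : x ∉ U k 1 0) : x ∈ U k 1 1 := by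
  obtain ⟨j, hj⟩ := exists_mem_U k 1 x
  fin_cases j
  · exact absurd hj hx
  · exact hj

variable [IsIntegral (CohB1.ProjSpace 1 k)]

/-- `κ^*O(1)` is `O` of the polar divisor of the coordinate. -/
theorem nonempty_iso_poleDiv (h : CrvPic30.Setup k C) (κ : C ⟶ CohB1.ProjSpace 1 k)
    (hκ : κ ≫ CohB1.ProjSpace.toSpec 1 k = C ↘ Spec (CommRingCat.of k))
    (e : κ (genericPoint C) = genericPoint (CohB1.ProjSpace 1 k)) :
    Nonempty (Lh κ ≅ h.O (FF30.poleDiv (Crv77.ffMap κ e (Crv77.tP k)) : Divisor k C.functionField)) := by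
  obtain ⟨D, ⟨φ⟩⟩ := h.exists_iso_O (isInvertible_Lh κ)
  set z := Crv77.ffMap κ e (Crv77.tP k) with hz
  have hz0 : z ≠ 0 := fun h0 => by
    have htr := (Crv77.fieldRange_ffMap κ hκ e).1
    rw [← hz, h0] at htr
    exact htr isAlgebraic_zero
  have hg : genericPoint C ∈ κ ⁻¹ᵁ (⊤ : (CohB1.ProjSpace 1 k).Opens) := trivial
  have hg0 : genericPoint C ∈ κ ⁻¹ᵁ U k 1 0 := by
    show κ (genericPoint C) ∈ U k 1 0
    rw [e]; exact Crv77.genericPoint_mem_U₀ k
  let f : Fin 2 → C.functionField := fun i => CrvPic30.Setup.rval hg (φ.hom.app _ (coordSect κ i))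
  have hframe : ∀ (i : Fin 2) (hgi : genericPoint C ∈ κ ⁻¹ᵁ U k 1 i), f i ≠ 0 ∧
      ∀ (y : C) (hy : IsClosed ({y} : Set C)), y ∈ κ ⁻¹ᵁ U k 1 i →
        (h.place ⟨y, hy⟩).1 (f i) = WithZero.exp (D (h.place ⟨y, hy⟩)) := by
    intro i hgi
    have h1 := val_frame (h := h) (D := D) hgi (((Amp73.isFrame_app_iff φ.hom _).2 (isFrame_coordSect κ i)))
    have h2 : CrvPic30.Setup.rval hgi (φ.hom.app _ (res (Lh κ) (κ.preimage_mono (le_top : U k 1 i ≤ ⊤)) (coordSect κ i))) = f i := by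
      rw [Mero90.app_res φ.hom (κ.preimage_mono le_top) (coordSect κ i)]
      rfl
    rw [h2] at h1
    exact h1
  have hrel : f 1 = z * f 0 := by
    have h1 := congrArg (fun t => CrvPic30.Setup.rval hg0 (φ.hom.app _ t)) (coordSect_smul κ 0 1)
    dsimp only at h1
    rw [Scheme.Modules.Hom.app_smul, CrvPic30.Setup.rval_smul, Mero90.app_res, Mero90.app_res,
      CrvPic30.Setup.rval_res hg _ hg0, CrvPic30.Setup.rval_res hg _ hg0] at h1
    refine h1.symm.trans (congrArg (· * f 0) ?_)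
    rw [hz, Crv77.ffMap, Crv77.tP]
    show _ = _
    rw [CommRingCat.comp_apply, TopCat.Presheaf.germ_stalkSpecializes_apply, Scheme.Hom.germ_stalkMap_apply]
    exact congrArg (fun a => C.presheaf.germ _ _ hg0 (κ.app _ a)) (Polynomial.eval₂_X _ _).symm
  obtain ⟨hf0, hU0⟩ := hframe 0 hg0
  have hbd : ∀ (i : Fin 2) (y : C) (hy : IsClosed ({y} : Set C)),
      (h.place ⟨y, hy⟩).1 (f i) ≤ WithZero.exp (D (h.place ⟨y, hy⟩)) := fun i y hy =>
    CrvPic30.Setup.rval_le hg _ y hy trivial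
  refine h.iso_of_sub_mem φ (Iso.refl _) ?_
  have hD : D - (FF30.poleDiv z : Divisor k C.functionField) = -div k (f 0) := by
    refine Finsupp.ext fun P => ?_
    obtain ⟨⟨y, hy⟩, rfl⟩ := h.place.surjective P
    rw [Finsupp.sub_apply, Finsupp.neg_apply, h.ffield.poleDiv_apply, h.ffield.div_apply]
    by_cases hy0 : y ∈ κ ⁻¹ᵁ U k 1 0
    · have h1 := hU0 y hy hy0
      rw [FF30.val_eq _ hf0, WithZero.exp_inj] at h1
      have h2 := hbd 1 y hy
      rw [hrel, map_mul, FF30.val_eq _ hz0, FF30.val_eq _ hf0, ← WithZero.exp_add, WithZero.exp_le_exp] at h2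
      rw [max_eq_right (by omega)]
      omega
    · have hy1 : y ∈ κ ⁻¹ᵁ U k 1 1 := mem_one_of_not_mem_zero (κ y) hy0
      obtain ⟨hf1, hU1⟩ := hframe 1 (CrvPic30.gen_mem hy1)
      have h1 := hU1 y hy hy1
      rw [hrel, map_mul, FF30.val_eq _ hz0, FF30.val_eq _ hf0, ← WithZero.exp_add, WithZero.exp_inj] at h1
      have h2 := hbd 0 y hy
      rw [FF30.val_eq _ hf0, WithZero.exp_le_exp] at h2
      rw [max_eq_left (by omega)]
      omega
  rw [hD]
  exact neg_mem (FF30.div_mem_prinDivs _)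

/-- The class of `κ^*O(1)` has degree two and two sections. -/
theorem exists_divisor (h : CrvPic30.Setup k C) (κ : C ⟶ CohB1.ProjSpace 1 k) [IsFinite κ] [Flat κ]
    (hκ : κ ≫ CohB1.ProjSpace.toSpec 1 k = C ↘ Spec (CommRingCat.of k))
    (hκ2 : ∀ y : CohB1.ProjSpace 1 k, κ.finrank y = 2) (hg : 1 ≤ Curv2.genus k C) :
    ∃ D : Divisor k C.functionField, D.deg = 2 ∧ 2 ≤ ell D ∧ Nonempty (Lh κ ≅ h.O D) := by
  have := Curves2.ProjLine.isLocallyNoetherian k 1
  have e := Crv77.finite_hom_generic h.dim κ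
  obtain ⟨z, -, rfl, hd, -⟩ := Crv77.exists_fun_of_hom κ hκ e
  rw [← Crv77.finrank_eq_residueDegree κ e (genericPoint _), hκ2] at hd
  rw [h.genus_eq] at hg
  obtain ⟨h1, h2⟩ := Crv77.ell_poleDiv_double h.ff hg hd.symm
  exact ⟨_, h1, h2.ge, nonempty_iso_poleDiv h κ hκ e⟩

/-- A double cover of the line by a curve of genus at least one, with the divisor of `κ^*O(1)`. -/
structure Double (h : CrvPic30.Setup k C) (κ : C ⟶ CohB1.ProjSpace 1 k) (g : ℕ)
    (D : Divisor k C.functionField) : Prop where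
  deg : D.deg = 2
  ell_ge : 2 ≤ ell D
  iso : Nonempty (Lh κ ≅ h.O D)
  genus : FunFld.genus k C.functionField = g
  pos : 1 ≤ g

theorem exists_double (h : CrvPic30.Setup k C) (κ : C ⟶ CohB1.ProjSpace 1 k) [IsFinite κ] [Flat κ]
    (hκ : κ ≫ CohB1.ProjSpace.toSpec 1 k = C ↘ Spec (CommRingCat.of k))
    (hκ2 : ∀ y : CohB1.ProjSpace 1 k, κ.finrank y = 2) {g : ℕ} (hg : 1 ≤ g) (hgen : Curv2.genus k C = g) :
    ∃ D, Double h κ g D := by
  obtain ⟨D, h1, h2, h3⟩ := exists_divisor h κ hκ hκ2 (hgen.symm ▸ hg)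
  exact ⟨D, h1, h2, h3, by rw [← h.genus_eq, hgen], hg⟩

omit [IsIntegral (CohB1.ProjSpace 1 k)]

variable [IsAlgClosed k] {h : CrvPic30.Setup k C} {κ : C ⟶ CohB1.ProjSpace 1 k} {g : ℕ}
  {D : Divisor k C.functionField}

omit [IsAlgClosed k] in
theorem Double.deg_zsmul (hD : Double h κ g D) (s : ℤ) : (s • D).deg = 2 * s := by
  rcases Int.eq_nat_or_neg s with ⟨n, rfl | rfl⟩
  · rw [natCast_zsmul, FF30.deg_nsmul, hD.deg]; ring
  · have h1 := FF30.deg_sub (0 : Divisor k C.functionField) (n • D)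
    rw [zero_sub, CrvPic30.deg_zero', FF30.deg_nsmul, hD.deg] at h1
    rw [neg_zsmul, natCast_zsmul, h1]; ring

omit [IsAlgClosed k] in
theorem Double.deg_O (hD : Double h κ g D) (s : ℤ) : Curv2.deg k C (h.O (s • D)) 1 = 2 * s := by
  rw [h.deg_O, hD.deg_zsmul]

omit [IsAlgClosed k] in
theorem Double.tensorPow_iso (hD : Double h κ g D) (n : ℕ) :
    Nonempty (CohB1.tensorPow (Lh κ) n ≅ h.O ((n : ℤ) • D)) := by
  obtain ⟨e⟩ := hD.iso
  rw [natCast_zsmul]
  exact h.tensorPow_iso e n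

theorem Double.canonical (hD : Double h κ g D) {W : Divisor k C.functionField}
    (hW : IsCanonical k C.functionField W) : ((g : ℤ) - 1) • D - W ∈ prinDivs k C.functionField := by
  have hg := hD.pos
  refine CrvPic30.sub_canonical_mem h.ff hW ?_ ?_
  · rw [hD.deg_zsmul, hD.genus]; ring
  · have h1 := h.ell_nsmul_ge hD.ell_ge (g - 1)
    rw [show ((g : ℤ) - 1) = ((g - 1 : ℕ) : ℤ) by omega, natCast_zsmul, hD.genus]
    omega

theorem Double.ell_sub (hD : Double h κ g D) {W : Divisor k C.functionField}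
    (hW : IsCanonical k C.functionField W) (s : ℤ) :
    ell (W - s • D) = ell (((g : ℤ) - 1 - s) • D) := by
  refine (FF30.ell_congr h.ffield ?_).symm
  rw [sub_zsmul, show ((g : ℤ) - 1) • D + -(s • D) - (W - s • D) = ((g : ℤ) - 1) • D - W by abel]
  exact hD.canonical hW

omit [IsAlgClosed k] in
theorem Double.ell_neg (hD : Double h κ g D) {s : ℤ} (hs : s < 0) : ell (s • D) = 0 :=
  CrvPic30.ell_eq_zero_of_deg_neg h.ffield (by rw [hD.deg_zsmul]; omega)

theorem Double.ell_nat (hD : Double h κ g D) {j : ℕ} (hj : j + 1 ≤ g) : ell ((j : ℤ) • D) = j + 1 := by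
  obtain ⟨W, hW⟩ := FF30.exists_isCanonical h.ff
  have h1 := h.ell_nsmul_ge hD.ell_ge j
  have h2 := h.ell_nsmul_ge hD.ell_ge (g - 1 - j)
  rw [← natCast_zsmul] at h1 h2
  have h3 : 0 < ell (W - (j : ℤ) • D) := by
    rw [hD.ell_sub hW, show ((g : ℤ) - 1 - j) = ((g - 1 - j : ℕ) : ℤ) by omega]
    omega
  have h4 := h.clifford hW (D := (j : ℤ) • D) (by omega) h3
  rw [hD.deg_zsmul] at h4
  omega

omit [IsAlgClosed k] in
theorem Double.h0_eq (_ : Double h κ g D) (s : ℤ) :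
    Module.finrank k (Coh.HH C (h.O (s • D)) 0) = ell (s • D) := h.finrank_h0_O _

theorem Double.h1_eq (hD : Double h κ g D) (s : ℤ) :
    Module.finrank k (Coh.HH C (h.O (s • D)) 1) = ell (((g : ℤ) - 1 - s) • D) := by
  obtain ⟨W, hW⟩ := FF30.exists_isCanonical h.ff
  rw [h.h1_of_iso hW (Iso.refl _), hD.ell_sub hW]

theorem Double.h1_zero (hD : Double h κ g D) {s : ℤ} (hs : (g : ℤ) - 1 < s) :
    Subsingleton (Coh.HH C (h.O (s • D)) 1) := by
  have := h.isNoetherian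
  have := h.curveCoh.finite _ (Crv77.isCoh_of_isInvertible (h.isInvertible_O (s • D))) 1
  rw [← Module.finrank_zero_iff (R := k), hD.h1_eq, hD.ell_neg (by omega)]

/-- Riemann-Roch. -/
theorem Double.euler_eq (hD : Double h κ g D) (s : ℤ) :
    Curv2.euler k C (h.O (s • D)) = 2 * s + 1 - g := by
  have := h.isNoetherian
  obtain ⟨W, hW⟩ := FF30.exists_isCanonical h.ff
  rw [h.curveCoh.euler_eq (Crv77.isCoh_of_isInvertible (h.isInvertible_O _))]
  simp only [Crv77.h]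
  rw [hD.h0_eq, hD.h1_eq, ← hD.ell_sub hW]
  have := FF30.riemann_roch' h.ff hW (s • D)
  rw [hD.deg_zsmul, hD.genus] at this
  omega

theorem Double.omega_iso (hD : Double h κ g D) [QuasiSeparated (C ↘ Spec (CommRingCat.of k))] :
    Nonempty (Omega.sheaf (C ↘ Spec (CommRingCat.of k)) ≅ h.O (((g : ℤ) - 1) • D)) := by
  obtain ⟨W, hW, ⟨e⟩⟩ := h.nonempty_iso_omega
  exact h.iso_of_sub_mem e (Iso.refl _) (by rw [← neg_sub]; exact neg_mem (hD.canonical hW))

end Groth.Agent.HypSq53
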