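import Groth.Agent.Var76.RegPow
import Groth.Agent.Curves2.Glue.Descend
import Groth.Agent.Curves2.IdealFrame
import Groth.Agent.Amp73.Gen
import Groth.Agent.FGA29.IntNumBasic
import Mathlib.AlgebraicGeometry.IdealSheaf.Subscheme

/-! A section whose zero scheme is the sum of two effective Cartier divisors. -/

set_option autoImplicit false
set_option backward.isDefEq.respectTransparency.types false
set_option linter.style.haveILetI false

universe u

open CategoryTheory CategoryTheory.Limits AlgebraicGeometry TopologicalSpace Opposite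
open Groth.Agent.Var76.LineBundle

open scoped Groth.Agent.FGA29 nonZeroDivisors

noncomputable section

namespace Groth.Agent.HypSq53

variable {X : Scheme.{u}}

theorem span_of_frame (I : X.IdealSheafData) (V : X.affineOpens) {e : Γ(ClSub.idealMod I, V.1)}
    (he : IsFrame (ClSub.idealMod I) V.1 e) :
    OmegaSh.idealSect I V.1 e ∈ Γ(X, V.1)⁰ ∧ I.ideal V = Ideal.span {OmegaSh.idealSect I V.1 e} := by
  have hsm : ∀ a : Γ(X, V.1), OmegaSh.idealSect I V.1 (a • res (ClSub.idealMod I) le_rfl e) =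
      a * OmegaSh.idealSect I V.1 e := by
    intro a; rw [Omega57.idealSect_smul, Curves2.idealSect_res]; simp
  refine ⟨mem_nonZeroDivisors_iff_right.2 fun a ha => ?_, le_antisymm (fun r hr => ?_) ?_⟩
  · refine (he V.1 le_rfl).1 (Omega57.idealSect_injective I V.1 ?_ : _ = (0 : Γ(X, V.1)) • _)
    rw [hsm, hsm, ha, zero_mul]
  · obtain ⟨m, rfl⟩ := Curves2.exists_idealSect_of_mem I V hr
    obtain ⟨a, rfl⟩ := (he V.1 le_rfl).2 m
    exact Ideal.mem_span_singleton'.2 ⟨a, (hsm a).symm⟩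
  · rw [Ideal.span_singleton_le_iff_mem]; exact Curves2.idealSect_mem_ideal I V e

/-- The class of a module with a section cutting out two divisors. -/
theorem cl_mul_of_section {I J : X.IdealSheafData} {F : X.Modules} (hF : PicF.IsInvertible F)
    (hJ : PicF.IsInvertible (ClSub.idealMod J)) (s : Γ(F, ⊤))
    (H : ∀ x : X, ∃ (V : X.Opens) (a : Γ(ClSub.idealMod I, V)) (b : Γ(ClSub.idealMod J, V)) (e : Γ(F, V)),
      x ∈ V ∧ IsFrame (ClSub.idealMod I) V a ∧ IsFrame (ClSub.idealMod J) V b ∧ IsFrame F V e ∧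
        (OmegaSh.idealSect I V a * OmegaSh.idealSect J V b) • e = res F (le_top : V ≤ ⊤) s) :
    PicF.cl (ClSub.idealMod I) * PicF.cl (ClSub.idealMod J) * PicF.cl F = 1 := by
  have hJF := EGA73.isInvertible_tensorMod hJ hF
  let M := CohB1.tensorMod (ClSub.idealMod I) (CohB1.tensorMod (ClSub.idealMod J) F)
  let Φ : M ⟶ F := Var76.Reg.idealInc I _ ≫ Var76.Reg.idealInc J F
  have := Var76.Reg.mono_idealInc I hJF
  have := Var76.Reg.mono_idealInc J hF
  have hmono : Mono Φ := mono_comp _ _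
  choose V a b e hx ha hb he hs using H
  let w : ∀ x : X, Γ(M, V x) := fun x => Amp73.tm _ _ (a x) (Amp73.tm _ _ (b x) (e x))
  have hw : ∀ x, IsFrame M (V x) (w x) := fun x => Amp73.isFrame_tm (ha x) (Amp73.isFrame_tm (hb x) (he x))
  have hΦ : ∀ x, Φ.app (V x) (w x) = res F (le_top : V x ≤ ⊤) s := fun x => by
    show (Var76.Reg.idealInc J F).app (V x) ((Var76.Reg.idealInc I _).app (V x) (w x)) = _
    rw [Var76.Reg.idealInc_tm, Scheme.Modules.Hom.app_smul, Var76.Reg.idealInc_tm, ← mul_smul, hs]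
  obtain ⟨φ⟩ := Curves2.Glue.nonempty_iso_of_frames (A := M) (B := Coh.structureModule X) V (fun x => ⟨x, hx x⟩)
    w (fun x => show Γ(Coh.structureModule X, V x) from (1 : Γ(X, V x))) hw
    (fun x V' hV' => by
      have h1 : ∀ c : Γ(X, V'), c • res (Coh.structureModule X) hV'
          (show Γ(Coh.structureModule X, V x) from (1 : Γ(X, V x))) =
          (show Γ(Coh.structureModule X, V') from c) := fun c => by
        show c * X.presheaf.map (homOfLE hV').op 1 = c
        rw [map_one, mul_one]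
      exact ⟨fun p q hpq => (h1 p).symm.trans (hpq.trans (h1 q)), fun y => ⟨y, h1 y⟩⟩)
    (fun i j c hc => by
      have hij : res M inf_le_right (w j) = res M (inf_le_left : V i ⊓ V j ≤ V i) (w i) := by
        refine QC70.app_injective_of_mono Φ _ ?_
        rw [Mero90.app_res, Mero90.app_res, hΦ, hΦ, res_res, res_res]
      have h1 : c = 1 := (hw j _ inf_le_right).1 (hc.trans (hij.symm.trans (one_smul Γ(X, V i ⊓ V j) _).symm))
      subst h1
      rw [one_smul]
      show X.presheaf.map _ (1 : Γ(X, V j)) = X.presheaf.map _ (1 : Γ(X, V i))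
      rw [map_one, map_one])
  have h1 : PicF.cl M = PicF.cl (Coh.structureModule X) := Quot.sound ⟨φ⟩
  rw [FGA29.cl_tensor, FGA29.cl_tensor, FGA29.cl_one, ← mul_assoc] at h1
  exact h1

/-- Near a point, the section of a box is the product of the equations of the two divisors. -/
theorem exists_local {Z : Scheme.{u}} [IsIntegral Z] {I : X.IdealSheafData} (i : Z ⟶ X) [IsClosedImmersion i]
    {F : X.Modules} (hI : PicF.IsInvertible (ClSub.idealMod I)) (hJ : PicF.IsInvertible (ClSub.idealMod i.ker))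
    (s : Γ(F, ⊤)) (W : X.affineOpens) {e : Γ(F, W.1)} (he : IsFrame F W.1 e) {f : Γ(X, W.1)}
    (hs : f • e = res F (le_top : W.1 ≤ ⊤) s) (hfI : f ∈ I.ideal W) (hfJ : f ∈ i.ker.ideal W)
    (hf : ∀ g ∈ I.ideal W, g ∈ i.ker.ideal W → g ∈ Ideal.span {f})
    {w : Γ(X, W.1)} (hwI : w ∈ I.ideal W) (hwJ : i.app W.1 w ≠ 0) {x : X} (hx : x ∈ W.1) :
    ∃ (V : X.Opens) (a : Γ(ClSub.idealMod I, V)) (b : Γ(ClSub.idealMod i.ker, V)) (e : Γ(F, V)),
      x ∈ V ∧ IsFrame (ClSub.idealMod I) V a ∧ IsFrame (ClSub.idealMod i.ker) V b ∧ IsFrame F V e ∧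
        (OmegaSh.idealSect I V a * OmegaSh.idealSect i.ker V b) • e = res F (le_top : V ≤ ⊤) s := by
  obtain ⟨U, hxU, hUW, a₀, ha₀⟩ := Mero90.exists_affine_frame hI x W.1 hx
  obtain ⟨U', hxU', hU'U, b₀, hb₀⟩ := Mero90.exists_affine_frame hJ x U.1 hxU
  obtain ⟨r, hr, hxr⟩ := W.2.exists_basicOpen_le (V := U'.1) ⟨x, hxU'⟩ hx
  let V : X.affineOpens := X.affineBasicOpen r
  have hVW : V.1 ≤ W.1 := X.basicOpen_le r
  have hVU' : V.1 ≤ U'.1 := hr
  have ha := ha₀.res (hVU'.trans hU'U)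
  have hb := hb₀.res hVU'
  set a := res (ClSub.idealMod I) (hVU'.trans hU'U) a₀
  set b := res (ClSub.idealMod i.ker) hVU' b₀
  obtain ⟨hna, hIa⟩ := span_of_frame I V ha
  obtain ⟨hnb, hJb⟩ := span_of_frame i.ker V hb
  set A := OmegaSh.idealSect I V.1 a
  set B := OmegaSh.idealSect i.ker V.1 b
  let ρ := (X.presheaf.map (homOfLE hVW).op).hom
  have hIV : (I.ideal W).map ρ = I.ideal V := I.map_ideal_basicOpen W r
  have hJV : (i.ker.ideal W).map ρ = i.ker.ideal V := i.ker.map_ideal_basicOpen W r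
  have hKV : ((I ⊓ i.ker).ideal W).map ρ = (I ⊓ i.ker).ideal V := (I ⊓ i.ker).map_ideal_basicOpen W r
  obtain ⟨c, hc⟩ := Ideal.mem_span_singleton'.1 (hIa ▸ hIV ▸ Ideal.mem_map_of_mem ρ hfI : ρ f ∈ Ideal.span {A})
  obtain ⟨r', hr'⟩ := Ideal.mem_span_singleton'.1 (hIa ▸ hIV ▸ Ideal.mem_map_of_mem ρ hwI : ρ w ∈ Ideal.span {A})
  have hcJ : c ∈ i.ker.ideal V := by
    rw [Scheme.Hom.ker_apply, RingHom.mem_ker]
    rcases isEmpty_or_nonempty (i ⁻¹ᵁ V.1) with hemp | hne
    · have : Subsingleton Γ(Z, i ⁻¹ᵁ V.1) := by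
        rw [show i ⁻¹ᵁ V.1 = ⊥ from Opens.ext (Set.eq_empty_of_forall_notMem fun y hy => hemp.false ⟨y, hy⟩)]
        infer_instance
      exact Subsingleton.elim _ _
    have h1 : i.app V.1 (ρ f) = 0 := by
      have := hJV ▸ Ideal.mem_map_of_mem ρ hfJ
      rwa [Scheme.Hom.ker_apply, RingHom.mem_ker] at this
    have h2 : i.app V.1 (ρ w) ≠ 0 := by
      show i.app V.1 (X.presheaf.map (homOfLE hVW).op w) ≠ 0
      rw [← ConcreteCategory.comp_apply, Scheme.Hom.naturality, ConcreteCategory.comp_apply]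
      exact (map_ne_zero_iff _ (AlgebraicGeometry.map_injective_of_isIntegral Z _)).2 hwJ
    rw [← hr', map_mul] at h2
    rw [← hc, map_mul] at h1
    exact (mul_eq_zero.1 h1).resolve_right (right_ne_zero_of_mul h2)
  obtain ⟨c', hc'⟩ := Ideal.mem_span_singleton'.1 (hJb ▸ hcJ : c ∈ Ideal.span {B})
  obtain ⟨d, hd⟩ : ∃ d, d * ρ f = A * B := by
    refine Ideal.mem_span_singleton'.1 ?_
    have h1 : A * B ∈ (I ⊓ i.ker).ideal V := by
      rw [Scheme.IdealSheafData.ideal_inf, Pi.inf_apply]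
      exact ⟨Ideal.mul_mem_right _ _ (hIa ▸ Ideal.mem_span_singleton_self A),
        Ideal.mul_mem_left _ _ (hJb ▸ Ideal.mem_span_singleton_self B)⟩
    rw [← hKV] at h1
    have h2 : (I ⊓ i.ker).ideal W ≤ Ideal.span {f} := fun g hg => by
      rw [Scheme.IdealSheafData.ideal_inf, Pi.inf_apply] at hg
      exact hf g hg.1 hg.2
    have h3 := Ideal.map_mono (f := ρ) h2 h1
    rwa [Ideal.map_span, Set.image_singleton] at h3
  have hu : IsUnit c' := by
    refine IsUnit.of_mul_eq_one d ?_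
    have h1 : (A * B) * (c' * d) = (A * B) * 1 := by
      conv_rhs => rw [mul_one, ← hd, ← hc, ← hc']
      ring
    exact sub_eq_zero.1 ((mem_nonZeroDivisors_iff_left.1 (mul_mem hna hnb)) _
      (by rw [mul_sub, h1, sub_self]))
  refine ⟨V.1, a, b, c' • res F hVW e, hxr, ha, hb,
    (Amp73.isFrame_smul_iff (he.res hVW) c').2 hu, ?_⟩
  rw [← mul_smul, show A * B * c' = ρ f by rw [← hc, ← hc']; ring,
    ← res_res F (le_top : W.1 ≤ ⊤) hVW, ← hs, res_smul]

end Groth.Agent.HypSq53
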