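import Groth.Agent.HypSq53.Chart
import Groth.Agent.HypSq53.ProdSection
import Groth.Agent.HypSq53.Surface

/-! The diagonal and the graph of the involution are the zero scheme of `t₀ ⊠ t₁ - t₁ ⊠ t₀`. -/

set_option autoImplicit false
set_option backward.isDefEq.respectTransparency.types false
set_option linter.style.haveILetI false

universe u

open CategoryTheory CategoryTheory.Limits AlgebraicGeometry TopologicalSpace Opposite FunFld
open Groth.Agent.Var76.LineBundle Groth.Agent.Var76.ProjCoord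

open scoped Groth.Agent.FGA29 nonZeroDivisors

noncomputable section

namespace Groth.Agent.HypSq53

variable {k : Type u} [Field k] {C : Scheme.{u}} (p : C ⟶ Spec (CommRingCat.of k))

theorem id_appLE {C : Scheme.{u}} {a : C.Opens} (h : a ≤ 𝟙 C ⁻¹ᵁ a) (x : Γ(C, a)) :
    (𝟙 C : C ⟶ C).appLE a a h x = x := by
  show C.presheaf.map (homOfLE le_rfl).op x = x
  exact congr($(C.presheaf.map_id (op a)) x)

/-- The functions on a box of affine opens are sums of products. -/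
theorem induction_box {a b : C.Opens} (ha : IsAffineOpen a) (hb : IsAffineOpen b)
    (motive : Γ(pullback p p, box p a b) → Prop) (h0 : motive 0)
    (hmul : ∀ x y, motive ((pullback.fst p p).appLE a (box p a b) (box_le_fst p a b) x *
      (pullback.snd p p).appLE b (box p a b) (box_le_snd p a b) y))
    (hadd : ∀ g g', motive g → motive g' → motive (g + g')) (g : Γ(pullback p p, box p a b)) : motive g := by
  letI := (cst p a).hom.toAlgebra
  letI := (cst p b).hom.toAlgebra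
  have hpb := Scheme.Hom.isPullback_resLE (IsPullback.of_hasPullback p p) (US := ⊤) (UX := a) (UT := b)
    (le_top : b ≤ p ⁻¹ᵁ ⊤) (le_top : a ≤ p ⁻¹ᵁ ⊤) (UY := box p a b) rfl
  have : IsAffine (a : Scheme.{u}) := ha
  have : IsAffine (b : Scheme.{u}) := hb
  have : IsAffine ((⊤ : (Spec (CommRingCat.of k)).Opens) : Scheme.{u}) := isAffineOpen_top _
  have hpo : IsPushout (cst p a) (cst p b) ((pullback.fst p p).appLE a (box p a b) (box_le_fst p a b))
      ((pullback.snd p p).appLE b (box p a b) (box_le_snd p a b)) := by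
    refine (isPushout_appTop_of_isPullback hpb).of_iso
      ((⊤ : (Spec (CommRingCat.of k)).Opens).topIso ≪≫ Scheme.ΓSpecIso _) a.topIso b.topIso (box p a b).topIso
        ?_ ?_ ?_ ?_ <;>
    · simp only [cst, Scheme.Hom.appTop, Scheme.Hom.resLE_app_top, Category.assoc, Iso.inv_hom_id,
        Category.comp_id, Iso.trans_hom, Iso.hom_inv_id_assoc]
  have hpo' := CommRingCat.isPushout_tensorProduct k Γ(C, a) Γ(C, b)
  let E := (hpo.isoIsPushout _ _ hpo').commRingCatIsoToRingEquiv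
  obtain ⟨t, rfl⟩ := E.symm.surjective g
  induction t using TensorProduct.induction_on with
  | zero => rw [map_zero]; exact h0
  | tmul x y =>
    rw [show x ⊗ₜ[k] y = (x ⊗ₜ[k] (1 : Γ(C, b))) * ((1 : Γ(C, a)) ⊗ₜ[k] y) by
      rw [Algebra.TensorProduct.tmul_mul_tmul, mul_one, one_mul], map_mul]
    convert hmul x y using 2
    · exact E.symm_apply_eq.2 (congr($(hpo.inl_isoIsPushout_hom _ _ hpo') x)).symm
    · exact E.symm_apply_eq.2 (congr($(hpo.inr_isoIsPushout_hom _ _ hpo') y)).symm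
  | add s t hs ht => rw [map_add]; exact hadd _ _ hs ht

variable [C.Over (Spec (CommRingCat.of k))] [IsProper (C ↘ Spec (CommRingCat.of k))]


section Ev

variable (τ : C ⟶ C) (hτp : τ ≫ (C ↘ Spec (CommRingCat.of k)) = (C ↘ Spec (CommRingCat.of k))) {a b : C.Opens} (hτ : a ≤ τ ⁻¹ᵁ b)

omit [IsProper (C ↘ Spec (CommRingCat.of k))] in
include hτ in
theorem le_graph_box : a ≤ graph τ hτp ⁻¹ᵁ box (C ↘ Spec (CommRingCat.of k)) a b := fun x hx => by
  refine ⟨?_, ?_⟩
  · show pullback.fst (C ↘ Spec (CommRingCat.of k)) (C ↘ Spec (CommRingCat.of k)) (graph τ hτp x) ∈ a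
    rw [← Scheme.Hom.comp_apply, pullback.lift_fst]; exact hx
  · show pullback.snd (C ↘ Spec (CommRingCat.of k)) (C ↘ Spec (CommRingCat.of k)) (graph τ hτp x) ∈ b
    rw [← Scheme.Hom.comp_apply, pullback.lift_snd]; exact hτ hx

/-- Restriction to the graph on a box. -/
abbrev ev : Γ(pullback (C ↘ Spec (CommRingCat.of k)) (C ↘ Spec (CommRingCat.of k)), box (C ↘ Spec (CommRingCat.of k)) a b) →+* Γ(C, a) :=
  ((graph τ hτp).appLE (box (C ↘ Spec (CommRingCat.of k)) a b) a (le_graph_box τ hτp hτ)).hom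

omit [IsProper (C ↘ Spec (CommRingCat.of k))] in
theorem ev_fst (x : Γ(C, a)) :
    ev τ hτp hτ ((pullback.fst (C ↘ Spec (CommRingCat.of k)) (C ↘ Spec (CommRingCat.of k))).appLE a (box (C ↘ Spec (CommRingCat.of k)) a b) (box_le_fst (C ↘ Spec (CommRingCat.of k)) a b) x) = x := by
  show ((pullback.fst (C ↘ Spec (CommRingCat.of k)) (C ↘ Spec (CommRingCat.of k))).appLE a _ _ ≫ (graph τ hτp).appLE _ a _) x = x
  rw [Scheme.Hom.appLE_comp_appLE]
  simp only [pullback.lift_fst]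
  exact id_appLE _ x

omit [IsProper (C ↘ Spec (CommRingCat.of k))] in
theorem ev_snd (x : Γ(C, b)) :
    ev τ hτp hτ ((pullback.snd (C ↘ Spec (CommRingCat.of k)) (C ↘ Spec (CommRingCat.of k))).appLE b (box (C ↘ Spec (CommRingCat.of k)) a b) (box_le_snd (C ↘ Spec (CommRingCat.of k)) a b) x) = τ.appLE b a hτ x := by
  show ((pullback.snd (C ↘ Spec (CommRingCat.of k)) (C ↘ Spec (CommRingCat.of k))).appLE b _ _ ≫ (graph τ hτp).appLE _ a _) x = _
  rw [Scheme.Hom.appLE_comp_appLE]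
  simp only [pullback.lift_snd]

omit [IsProper (C ↘ Spec (CommRingCat.of k))] in
theorem app_eq_zero_iff_ev (h : graph τ hτp ⁻¹ᵁ box (C ↘ Spec (CommRingCat.of k)) a b ≤ a) (g : Γ(pullback (C ↘ Spec (CommRingCat.of k)) (C ↘ Spec (CommRingCat.of k)), box (C ↘ Spec (CommRingCat.of k)) a b)) :
    (graph τ hτp).app (box (C ↘ Spec (CommRingCat.of k)) a b) g = 0 ↔ ev τ hτp hτ g = 0 := by
  show _ ↔ C.presheaf.map (homOfLE (le_graph_box τ hτp hτ)).op ((graph τ hτp).app (box (C ↘ Spec (CommRingCat.of k)) a b) g) = 0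
  refine (map_eq_zero_iff _ ?_).symm
  exact Function.LeftInverse.injective (g := C.presheaf.map (homOfLE h).op) fun y => by
    rw [← CommRingCat.comp_apply, ← Functor.map_comp]
    exact congr($(C.presheaf.map_id _) y)

omit [IsProper (C ↘ Spec (CommRingCat.of k))] in
theorem graph_box_le (a b : C.Opens) : graph τ hτp ⁻¹ᵁ box (C ↘ Spec (CommRingCat.of k)) a b ≤ a := fun x hx => by
  have h1 : pullback.fst (C ↘ Spec (CommRingCat.of k)) (C ↘ Spec (CommRingCat.of k)) (graph τ hτp x) ∈ a := hx.1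
  rwa [← Scheme.Hom.comp_apply, pullback.lift_fst] at h1

theorem mem_ker_iff_ev (hW : IsAffineOpen (box (C ↘ Spec (CommRingCat.of k)) a b)) (g : Γ(pullback (C ↘ Spec (CommRingCat.of k)) (C ↘ Spec (CommRingCat.of k)), box (C ↘ Spec (CommRingCat.of k)) a b)) :
    haveI := isClosedImmersion_graph τ hτp
    g ∈ (graph τ hτp).ker.ideal ⟨_, hW⟩ ↔ ev τ hτp hτ g = 0 := by
  haveI := isClosedImmersion_graph τ hτp
  rw [Scheme.Hom.ker_apply, RingHom.mem_ker]
  exact app_eq_zero_iff_ev τ hτp hτ (graph_box_le τ hτp a b) g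

end Ev

variable {σ : C ⟶ C} (κ : C ⟶ CohB1.ProjSpace 1 k)

/-- The antisymmetric section. -/
def diagSect : Γ(boxMod (C ↘ Spec (CommRingCat.of k)) (Lh κ) (Lh κ), ⊤) :=
  res (boxMod (C ↘ Spec (CommRingCat.of k)) (Lh κ) (Lh κ)) (box_top (C ↘ Spec (CommRingCat.of k))).ge (boxS (C ↘ Spec (CommRingCat.of k)) (Lh κ) (Lh κ) (coordSect κ 0) (coordSect κ 1)) -
    res (boxMod (C ↘ Spec (CommRingCat.of k)) (Lh κ) (Lh κ)) (box_top (C ↘ Spec (CommRingCat.of k))).ge (boxS (C ↘ Spec (CommRingCat.of k)) (Lh κ) (Lh κ) (coordSect κ 1) (coordSect κ 0))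

/-- The equation on a box of charts. -/
def diagEq (i j : Fin 2) : Γ(pullback (C ↘ Spec (CommRingCat.of k)) (C ↘ Spec (CommRingCat.of k)), box (C ↘ Spec (CommRingCat.of k)) (chartOpen κ i) (chartOpen κ j)) :=
  (pullback.fst (C ↘ Spec (CommRingCat.of k)) (C ↘ Spec (CommRingCat.of k))).appLE _ _ (box_le_fst (C ↘ Spec (CommRingCat.of k)) _ _) (zz κ i 0) * (pullback.snd (C ↘ Spec (CommRingCat.of k)) (C ↘ Spec (CommRingCat.of k))).appLE _ _ (box_le_snd (C ↘ Spec (CommRingCat.of k)) _ _) (zz κ j 1) -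
    (pullback.fst (C ↘ Spec (CommRingCat.of k)) (C ↘ Spec (CommRingCat.of k))).appLE _ _ (box_le_fst (C ↘ Spec (CommRingCat.of k)) _ _) (zz κ i 1) * (pullback.snd (C ↘ Spec (CommRingCat.of k)) (C ↘ Spec (CommRingCat.of k))).appLE _ _ (box_le_snd (C ↘ Spec (CommRingCat.of k)) _ _) (zz κ j 0)

/-- The frame on a box of charts. -/
abbrev boxFrame (i j : Fin 2) : Γ(boxMod (C ↘ Spec (CommRingCat.of k)) (Lh κ) (Lh κ), box (C ↘ Spec (CommRingCat.of k)) (chartOpen κ i) (chartOpen κ j)) :=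
  boxS (C ↘ Spec (CommRingCat.of k)) (Lh κ) (Lh κ) (chartFrame κ i) (chartFrame κ j)

omit [IsProper (C ↘ Spec (CommRingCat.of k))] in
theorem isFrame_boxFrame (i j : Fin 2) :
    IsFrame (boxMod (C ↘ Spec (CommRingCat.of k)) (Lh κ) (Lh κ)) (box (C ↘ Spec (CommRingCat.of k)) (chartOpen κ i) (chartOpen κ j)) (boxFrame κ i j) :=
  Amp73.isFrame_tm ((Amp73.isFrame_pullS _ (isInvertible_Lh κ) (isFrame_coordSect κ i)).res _)
    ((Amp73.isFrame_pullS _ (isInvertible_Lh κ) (isFrame_coordSect κ j)).res _)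

omit [IsProper (C ↘ Spec (CommRingCat.of k))] in
theorem diagEq_smul (i j : Fin 2) :
    diagEq κ i j • boxFrame κ i j = res (boxMod (C ↘ Spec (CommRingCat.of k)) (Lh κ) (Lh κ)) le_top (diagSect κ) := by
  have hs : ∀ s t, res (boxMod (C ↘ Spec (CommRingCat.of k)) (Lh κ) (Lh κ)) (le_top : box (C ↘ Spec (CommRingCat.of k)) (chartOpen κ i) (chartOpen κ j) ≤ ⊤)
      (res (boxMod (C ↘ Spec (CommRingCat.of k)) (Lh κ) (Lh κ)) (box_top (C ↘ Spec (CommRingCat.of k))).ge (boxS (C ↘ Spec (CommRingCat.of k)) (Lh κ) (Lh κ) s t)) =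
      boxS (C ↘ Spec (CommRingCat.of k)) (Lh κ) (Lh κ) (res (Lh κ) (κ.preimage_mono (le_top : U k 1 i ≤ ⊤)) s)
        (res (Lh κ) (κ.preimage_mono (le_top : U k 1 j ≤ ⊤)) t) := fun s t => by
    rw [res_res]
    exact boxS_res (C ↘ Spec (CommRingCat.of k)) (Lh κ) (Lh κ) (κ.preimage_mono le_top) (κ.preimage_mono le_top) s t
  rw [diagSect, show ∀ u v, res (boxMod (C ↘ Spec (CommRingCat.of k)) (Lh κ) (Lh κ)) (le_top : box (C ↘ Spec (CommRingCat.of k)) (chartOpen κ i) (chartOpen κ j) ≤ ⊤) (u - v) =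
      res (boxMod (C ↘ Spec (CommRingCat.of k)) (Lh κ) (Lh κ)) le_top u - res (boxMod (C ↘ Spec (CommRingCat.of k)) (Lh κ) (Lh κ)) le_top v from fun u v => map_sub _ _ _,
    hs, hs, res_coordSect, res_coordSect, res_coordSect, res_coordSect, boxS_smul_left, boxS_smul_left,
    boxS_smul_right, boxS_smul_right, ← mul_smul, ← mul_smul, ← sub_smul]
  rfl

variable {κ}

omit [IsProper (C ↘ Spec (CommRingCat.of k))] in
theorem ev_diagEq (τ : C ⟶ C) (hτp : τ ≫ (C ↘ Spec (CommRingCat.of k)) = (C ↘ Spec (CommRingCat.of k))) (hτ : τ ≫ κ = κ) (i : Fin 2) :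
    ev τ hτp (preimage_chartOpen hτ i).ge (diagEq κ i i) = 0 := by
  rw [diagEq, map_sub, map_mul, map_mul, ev_fst, ev_fst, ev_snd, ev_snd, appLE_zz hτ, appLE_zz hτ,
    mul_comm, sub_self]

omit [IsProper (C ↘ Spec (CommRingCat.of k))] in
theorem isUnit_germ_diagEq {i j : Fin 2} (hij : i ≠ j) {x : ↥(pullback (C ↘ Spec (CommRingCat.of k)) (C ↘ Spec (CommRingCat.of k)))}
    (hx : x ∈ box (C ↘ Spec (CommRingCat.of k)) (chartOpen κ i) (chartOpen κ j)) (hi : pullback.fst (C ↘ Spec (CommRingCat.of k)) (C ↘ Spec (CommRingCat.of k)) x ∉ chartOpen κ j) :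
    IsUnit ((pullback (C ↘ Spec (CommRingCat.of k)) (C ↘ Spec (CommRingCat.of k))).presheaf.germ _ x hx (diagEq κ i j)) := by
  have hn : ¬ IsUnit ((pullback (C ↘ Spec (CommRingCat.of k)) (C ↘ Spec (CommRingCat.of k))).presheaf.germ _ x hx
      ((pullback.fst (C ↘ Spec (CommRingCat.of k)) (C ↘ Spec (CommRingCat.of k))).appLE _ _ (box_le_fst (C ↘ Spec (CommRingCat.of k)) (chartOpen κ i) (chartOpen κ j)) (zz κ i j))) := fun hu => by
    have h1 := ((pullback (C ↘ Spec (CommRingCat.of k)) (C ↘ Spec (CommRingCat.of k))).mem_basicOpen _ x hx).2 hu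
    rw [Scheme.basicOpen_appLE] at h1
    exact hi (mem_chartOpen κ h1.2)
  have hmem : ∀ v, (pullback (C ↘ Spec (CommRingCat.of k)) (C ↘ Spec (CommRingCat.of k))).presheaf.germ _ x hx
      ((pullback.fst (C ↘ Spec (CommRingCat.of k)) (C ↘ Spec (CommRingCat.of k))).appLE _ _ (box_le_fst (C ↘ Spec (CommRingCat.of k)) (chartOpen κ i) (chartOpen κ j)) (zz κ i j)) * v ∈
      nonunits _ := fun v h => hn (isUnit_of_mul_isUnit_left h)
  rcases (show (i = 0 ∧ j = 1) ∨ (i = 1 ∧ j = 0) by omega) with ⟨rfl, rfl⟩ | ⟨rfl, rfl⟩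
  · simp only [diagEq, zz, coord_self, map_one, mul_one, map_sub, map_mul]
    exact IsLocalRing.isUnit_one_sub_self_of_mem_nonunits _ (hmem _)
  · simp only [diagEq, zz, coord_self, map_one, mul_one, map_sub, map_mul]
    rw [← neg_sub]
    exact (IsLocalRing.isUnit_one_sub_self_of_mem_nonunits _ (hmem _)).neg

variable [IsIntegral C] [IsIntegral (CohB1.ProjSpace 1 k)] {h : CrvPic30.Setup k C}
  {e : κ (genericPoint C) = genericPoint (CohB1.ProjSpace 1 k)} {es : σ (genericPoint C) = genericPoint C}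
  {y : C.functionField} {R : Polynomial k}

attribute [local instance] CrvPic30.ffAlg

omit [IsProper (C ↘ Spec (CommRingCat.of k))] in
/-- On a square of a chart the intersection of the two ideals is generated by the equation. -/
theorem Coord.exists_witness (h2 : (2 : k) ≠ 0) (hκ : κ ≫ CohB1.ProjSpace.toSpec 1 k = (C ↘ Spec (CommRingCat.of k)))
    (hσ : σ ≫ κ = κ) (hσp : σ ≫ (C ↘ Spec (CommRingCat.of k)) = (C ↘ Spec (CommRingCat.of k))) (hc : Coord h κ σ e es y R) (i : Fin 2)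
    (ha : IsAffineOpen (chartOpen κ i)) :
    (∀ g : Γ(pullback (C ↘ Spec (CommRingCat.of k)) (C ↘ Spec (CommRingCat.of k)), box (C ↘ Spec (CommRingCat.of k)) (chartOpen κ i) (chartOpen κ i)),
      ev (𝟙 C) (Category.id_comp (C ↘ Spec (CommRingCat.of k))) (preimage_chartOpen (Category.id_comp κ) i).ge g = 0 →
      ev σ hσp (preimage_chartOpen hσ i).ge g = 0 → g ∈ Ideal.span {diagEq κ i i}) ∧
    ∃ w, ev (𝟙 C) (Category.id_comp (C ↘ Spec (CommRingCat.of k))) (preimage_chartOpen (Category.id_comp κ) i).ge w = 0 ∧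
      ev σ hσp (preimage_chartOpen hσ i).ge w ≠ 0 := by
  set a := chartOpen κ i
  obtain ⟨sy, hsy0, hσy, hgen⟩ := hc.exists_anti h2 hκ hσ hσp i
  let fs := ((pullback.fst (C ↘ Spec (CommRingCat.of k)) (C ↘ Spec (CommRingCat.of k))).appLE a (box (C ↘ Spec (CommRingCat.of k)) a a) (box_le_fst (C ↘ Spec (CommRingCat.of k)) a a)).hom
  let sn := ((pullback.snd (C ↘ Spec (CommRingCat.of k)) (C ↘ Spec (CommRingCat.of k))).appLE a (box (C ↘ Spec (CommRingCat.of k)) a a) (box_le_snd (C ↘ Spec (CommRingCat.of k)) a a)).hom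
  have hne : Nonempty a := ⟨⟨_, generic_mem_chartOpen e i⟩⟩
  have h2a : (2 : Γ(C, a)) ≠ 0 := by
    rw [← map_ofNat (cst (C ↘ Spec (CommRingCat.of k)) a).hom 2]
    exact (map_ne_zero_iff _ (cst (C ↘ Spec (CommRingCat.of k)) a).hom.injective).2 h2
  let id' : a ≤ 𝟙 C ⁻¹ᵁ a := (preimage_chartOpen (Category.id_comp κ) i).ge
  have hid : ∀ x, (𝟙 C : C ⟶ C).appLE a a id' x = x := id_appLE id'
  refine ⟨fun g hgΔ hgΓ => ?_, fs sy - sn sy, ?_, ?_⟩
  · set I := Ideal.span {diagEq κ i i}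
    let π := Ideal.Quotient.mk I
    have hd : π (fs (zz κ i (i + 1))) = π (sn (zz κ i (i + 1))) := by
      rw [Ideal.Quotient.eq]
      rcases (show i = 0 ∨ i = 1 by omega) with rfl | rfl
      · have : diagEq κ 0 0 = sn (zz κ 0 1) - fs (zz κ 0 1) := by
          simp only [diagEq, zz, coord_self, map_one, mul_one, one_mul]
          rfl
        show fs (zz κ 0 1) - sn (zz κ 0 1) ∈ Ideal.span {diagEq κ 0 0}
        rw [this, ← neg_mem_iff, neg_sub]
        exact Ideal.mem_span_singleton_self _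
      · have : diagEq κ 1 1 = fs (zz κ 1 0) - sn (zz κ 1 0) := by
          simp only [diagEq, zz, coord_self, map_one, mul_one, one_mul]
          rfl
        show fs (zz κ 1 0) - sn (zz κ 1 0) ∈ Ideal.span {diagEq κ 1 1}
        rw [this]
        exact Ideal.mem_span_singleton_self _
    have hP : ∀ Q : Polynomial k, π (sn (Q.eval₂ (cst (C ↘ Spec (CommRingCat.of k)) a).hom (zz κ i (i + 1)))) =
        π (fs (Q.eval₂ (cst (C ↘ Spec (CommRingCat.of k)) a).hom (zz κ i (i + 1)))) := fun Q => by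
      rw [Polynomial.hom_eval₂, Polynomial.hom_eval₂, Polynomial.hom_eval₂, Polynomial.hom_eval₂, hd]
      congr 1
      refine RingHom.ext fun r => ?_
      show π ((pullback.snd (C ↘ Spec (CommRingCat.of k)) (C ↘ Spec (CommRingCat.of k))).appLE a _ _ (cst (C ↘ Spec (CommRingCat.of k)) a r)) = π ((pullback.fst (C ↘ Spec (CommRingCat.of k)) (C ↘ Spec (CommRingCat.of k))).appLE a _ _ (cst (C ↘ Spec (CommRingCat.of k)) a r))
      rw [appLE_cst, appLE_cst]
      exact congrArg π (congrArg (fun f : pullback (C ↘ Spec (CommRingCat.of k)) (C ↘ Spec (CommRingCat.of k)) ⟶ Spec (CommRingCat.of k) => cst f (box (C ↘ Spec (CommRingCat.of k)) a a) r)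
        pullback.condition).symm
    have hred : ∀ g, ∃ u v, π g = π (fs u) + π (fs v) * π (sn sy) := by
      intro g
      induction g using induction_box (C ↘ Spec (CommRingCat.of k)) ha ha with
      | h0 => exact ⟨0, 0, by simp⟩
      | hmul x x' =>
        obtain ⟨Q₁, Q₂, rfl⟩ := hgen x'
        refine ⟨x * Q₁.eval₂ (cst (C ↘ Spec (CommRingCat.of k)) a).hom (zz κ i (i + 1)), x * Q₂.eval₂ (cst (C ↘ Spec (CommRingCat.of k)) a).hom (zz κ i (i + 1)), ?_⟩
        show π (fs x * sn _) = _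
        rw [map_mul π, map_add sn, map_add π, map_mul sn, map_mul π, hP, hP, map_mul fs, map_mul π, map_mul fs,
          map_mul π]
        ring
      | hadd g g' hg hg' =>
        obtain ⟨u, v, hu⟩ := hg
        obtain ⟨u', v', hu'⟩ := hg'
        exact ⟨u + u', v + v', by rw [map_add, hu, hu']; simp only [map_add]; ring⟩
    obtain ⟨u, v, hu⟩ := hred g
    obtain ⟨c, hcg⟩ := Ideal.mem_span_singleton'.1 (Ideal.Quotient.eq.1 (show π g = π (fs u + fs v * sn sy) by
      rw [hu, map_add π, map_mul π]))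
    have key : ∀ (τ : C ⟶ C) (hτp : τ ≫ (C ↘ Spec (CommRingCat.of k)) = (C ↘ Spec (CommRingCat.of k))) (hτ : τ ≫ κ = κ),
        ev τ hτp (preimage_chartOpen hτ i).ge g = 0 →
          u + v * τ.appLE a a (preimage_chartOpen hτ i).ge sy = 0 := fun τ hτp hτ hg => by
      have h1 := congrArg (ev τ hτp (preimage_chartOpen hτ i).ge) hcg
      rw [map_mul, ev_diagEq τ hτp hτ i, mul_zero, map_sub, hg, zero_sub, map_add, map_mul, zero_eq_neg] at h1
      rwa [show ev τ hτp _ (fs u) = u from ev_fst τ hτp (preimage_chartOpen hτ i).ge u,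
        show ev τ hτp _ (fs v) = v from ev_fst τ hτp (preimage_chartOpen hτ i).ge v,
        show ev τ hτp _ (sn sy) = _ from ev_snd τ hτp (preimage_chartOpen hτ i).ge sy] at h1
    have h1 := key (𝟙 C) (Category.id_comp (C ↘ Spec (CommRingCat.of k))) (Category.id_comp κ) hgΔ
    have h3 := key σ hσp hσ hgΓ
    rw [hid] at h1
    rw [hσy] at h3
    have hv : v = 0 := by
      have h4 : (2 : Γ(C, a)) * (v * sy) = 0 := by linear_combination h1 - h3
      exact (mul_eq_zero.1 ((mul_eq_zero.1 h4).resolve_left h2a)).resolve_right hsy0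
    have hu0 : u = 0 := by rwa [hv, zero_mul, add_zero] at h1
    rw [hv, hu0, map_zero fs, zero_mul, add_zero, sub_zero] at hcg
    exact Ideal.mem_span_singleton'.2 ⟨c, hcg⟩
  · rw [map_sub, ev_fst, ev_snd, hid, sub_self]
  · rw [map_sub, ev_fst, ev_snd, hσy, sub_neg_eq_add, ← two_mul]
    exact mul_ne_zero h2a hsy0

omit [IsProper (C ↘ Spec (CommRingCat.of k))] [IsIntegral C] [IsIntegral (CohB1.ProjSpace 1 k)] in
theorem exists_frame_avoid {I : (pullback (C ↘ Spec (CommRingCat.of k)) (C ↘ Spec (CommRingCat.of k))).IdealSheafData} (V : (pullback (C ↘ Spec (CommRingCat.of k)) (C ↘ Spec (CommRingCat.of k))).affineOpens) (hI : I.ideal V = ⊤) :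
    ∃ a : Γ(ClSub.idealMod I, V.1), IsFrame (ClSub.idealMod I) V.1 a ∧ OmegaSh.idealSect I V.1 a = 1 := by
  obtain ⟨a, ha⟩ := Curves2.exists_idealSect_of_mem I V (hI ▸ Submodule.mem_top : (1 : Γ(pullback (C ↘ Spec (CommRingCat.of k)) (C ↘ Spec (CommRingCat.of k)), V.1)) ∈ _)
  exact ⟨a, Curves2.isFrame_of_span I V (one_mem _) (by rw [hI, Ideal.span_singleton_one]) a ha, ha⟩

omit [IsIntegral C] [IsIntegral (CohB1.ProjSpace 1 k)] in
theorem ideal_ker_eq_top {τ : C ⟶ C} {hτp : τ ≫ (C ↘ Spec (CommRingCat.of k)) = (C ↘ Spec (CommRingCat.of k))} (V : (pullback (C ↘ Spec (CommRingCat.of k)) (C ↘ Spec (CommRingCat.of k))).affineOpens)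
    (hV : ∀ c, graph τ hτp c ∉ V.1) :
    haveI := isClosedImmersion_graph τ hτp
    (graph τ hτp).ker.ideal V = ⊤ := by
  haveI := isClosedImmersion_graph τ hτp
  rw [Ideal.eq_top_iff_one, Scheme.Hom.ker_apply, RingHom.mem_ker]
  have : Subsingleton Γ(C, graph τ hτp ⁻¹ᵁ V.1) := by
    rw [show graph τ hτp ⁻¹ᵁ V.1 = ⊥ from Opens.ext (Set.eq_empty_of_forall_notMem hV)]
    infer_instance
  exact Subsingleton.elim _ _

/-- `Δ + Γ ∼ p₁^*D + p₂^*D`. -/
theorem Coord.cl_diag_graph [IsFinite κ] (h2 : (2 : k) ≠ 0) (hκ : κ ≫ CohB1.ProjSpace.toSpec 1 k = (C ↘ Spec (CommRingCat.of k)))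
    (hσ : σ ≫ κ = κ) (hσp : σ ≫ (C ↘ Spec (CommRingCat.of k)) = (C ↘ Spec (CommRingCat.of k))) (hc : Coord h κ σ e es y R)
    {N ND : (pullback (C ↘ Spec (CommRingCat.of k)) (C ↘ Spec (CommRingCat.of k))).Modules}
    (hNinv : ClSub.IsInverseOf N (ClSub.idealMod (graph σ hσp).ker))
    (hNDinv : ClSub.IsInverseOf ND (ClSub.idealMod (graph (𝟙 C) (Category.id_comp (C ↘ Spec (CommRingCat.of k)))).ker)) :
    PicF.cl ND * PicF.cl N = PicF.cl (boxMod (C ↘ Spec (CommRingCat.of k)) (Lh κ) (Lh κ)) := by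
  have := isClosedImmersion_graph σ hσp
  have := isClosedImmersion_graph (𝟙 C) (Category.id_comp (C ↘ Spec (CommRingCat.of k)))
  have hIΔ : PicF.IsInvertible (ClSub.idealMod (graph (𝟙 C) (Category.id_comp (C ↘ Spec (CommRingCat.of k)))).ker) := by
    obtain ⟨φ⟩ := hNDinv
    exact Inv57.isInvertible_of_tensorMod_iso (EGA73.tensComm _ ND ≪≫ φ)
  have hIΓ : PicF.IsInvertible (ClSub.idealMod (graph σ hσp).ker) := by
    obtain ⟨φ⟩ := hNinv
    exact Inv57.isInvertible_of_tensorMod_iso (EGA73.tensComm _ N ≪≫ φ)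
  have hF : PicF.IsInvertible (boxMod (C ↘ Spec (CommRingCat.of k)) (Lh κ) (Lh κ)) := EGA73.isInvertible_tensorMod
    (Amp73.isInvertible_pullback _ (isInvertible_Lh κ)) (Amp73.isInvertible_pullback _ (isInvertible_Lh κ))
  have haff : ∀ i, IsAffineOpen (chartOpen κ i) := fun i => (isAffineOpen_U k 1 i).preimage κ
  have h1 := cl_mul_of_section (I := (graph (𝟙 C) (Category.id_comp (C ↘ Spec (CommRingCat.of k)))).ker) (J := (graph σ hσp).ker) hF hIΓ
    (diagSect κ) fun x => ?_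
  · calc PicF.cl ND * PicF.cl N = PicF.cl ND * PicF.cl N *
          (PicF.cl (ClSub.idealMod (graph (𝟙 C) (Category.id_comp (C ↘ Spec (CommRingCat.of k)))).ker) *
            PicF.cl (ClSub.idealMod (graph σ hσp).ker) * PicF.cl (boxMod (C ↘ Spec (CommRingCat.of k)) (Lh κ) (Lh κ))) := by rw [h1, mul_one]
      _ = (PicF.cl ND * PicF.cl (ClSub.idealMod (graph (𝟙 C) (Category.id_comp (C ↘ Spec (CommRingCat.of k)))).ker)) *
          (PicF.cl N * PicF.cl (ClSub.idealMod (graph σ hσp).ker)) * PicF.cl (boxMod (C ↘ Spec (CommRingCat.of k)) (Lh κ) (Lh κ)) := by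
        simp only [mul_assoc, mul_comm, mul_left_comm]
      _ = _ := by rw [cl_inverse hNDinv, cl_inverse hNinv, one_mul, one_mul]
  obtain ⟨i, hi⟩ := exists_mem_U k 1 (κ (pullback.fst (C ↘ Spec (CommRingCat.of k)) (C ↘ Spec (CommRingCat.of k)) x))
  obtain ⟨j, hj⟩ := exists_mem_U k 1 (κ (pullback.snd (C ↘ Spec (CommRingCat.of k)) (C ↘ Spec (CommRingCat.of k)) x))
  have diag : ∀ i, pullback.fst (C ↘ Spec (CommRingCat.of k)) (C ↘ Spec (CommRingCat.of k)) x ∈ chartOpen κ i → pullback.snd (C ↘ Spec (CommRingCat.of k)) (C ↘ Spec (CommRingCat.of k)) x ∈ chartOpen κ i →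
      ∃ (V : (pullback (C ↘ Spec (CommRingCat.of k)) (C ↘ Spec (CommRingCat.of k))).Opens) (a : Γ(ClSub.idealMod (graph (𝟙 C) (Category.id_comp (C ↘ Spec (CommRingCat.of k)))).ker, V))
        (b : Γ(ClSub.idealMod (graph σ hσp).ker, V)) (f : Γ(boxMod (C ↘ Spec (CommRingCat.of k)) (Lh κ) (Lh κ), V)), x ∈ V ∧
        IsFrame _ V a ∧ IsFrame _ V b ∧ IsFrame _ V f ∧
        (OmegaSh.idealSect _ V a * OmegaSh.idealSect _ V b) • f = res _ (le_top : V ≤ ⊤) (diagSect κ) := by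
    intro i hi hj
    obtain ⟨hspan, w, hwΔ, hwΓ⟩ := hc.exists_witness h2 hκ hσ hσp i (haff i)
    let W : (pullback (C ↘ Spec (CommRingCat.of k)) (C ↘ Spec (CommRingCat.of k))).affineOpens := ⟨box (C ↘ Spec (CommRingCat.of k)) (chartOpen κ i) (chartOpen κ i), isAffineOpen_box (C ↘ Spec (CommRingCat.of k)) (haff i) (haff i)⟩
    have hmem : ∀ (τ : C ⟶ C) (hτp : τ ≫ (C ↘ Spec (CommRingCat.of k)) = (C ↘ Spec (CommRingCat.of k))) (hτ : τ ≫ κ = κ) g,
        g ∈ (graph τ hτp).ker.ideal W ↔ ev τ hτp (preimage_chartOpen hτ i).ge g = 0 := fun τ hτp hτ g =>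
      mem_ker_iff_ev τ hτp (preimage_chartOpen hτ i).ge W.2 g
    exact exists_local (graph σ hσp) hIΔ hIΓ (diagSect κ) W (isFrame_boxFrame κ i i) (diagEq_smul κ i i)
      ((hmem (𝟙 C) (Category.id_comp (C ↘ Spec (CommRingCat.of k))) (Category.id_comp κ) _).2 (ev_diagEq _ _ (Category.id_comp κ) i))
      ((hmem σ hσp hσ _).2 (ev_diagEq σ hσp hσ i))
      (fun g hg hg' => hspan g ((hmem (𝟙 C) (Category.id_comp (C ↘ Spec (CommRingCat.of k))) (Category.id_comp κ) g).1 hg) ((hmem σ hσp hσ g).1 hg'))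
      ((hmem (𝟙 C) (Category.id_comp (C ↘ Spec (CommRingCat.of k))) (Category.id_comp κ) w).2 hwΔ)
      (fun h0 => hwΓ ((app_eq_zero_iff_ev σ hσp _ (graph_box_le σ hσp _ _) w).1 h0)) ⟨hi, hj⟩
  by_cases hfj : pullback.fst (C ↘ Spec (CommRingCat.of k)) (C ↘ Spec (CommRingCat.of k)) x ∈ chartOpen κ j
  · exact diag j hfj hj
  by_cases hsi : pullback.snd (C ↘ Spec (CommRingCat.of k)) (C ↘ Spec (CommRingCat.of k)) x ∈ chartOpen κ i
  · exact diag i hi hsi
  have hij : i ≠ j := fun h => hfj (h ▸ hi)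
  have hx : x ∈ box (C ↘ Spec (CommRingCat.of k)) (chartOpen κ i) (chartOpen κ j) := ⟨hi, hj⟩
  have hu := isUnit_germ_diagEq hij hx hfj
  let O : (pullback (C ↘ Spec (CommRingCat.of k)) (C ↘ Spec (CommRingCat.of k))).Opens := (pullback (C ↘ Spec (CommRingCat.of k)) (C ↘ Spec (CommRingCat.of k))).basicOpen (diagEq κ i j) ⊓
    (⟨_, (graph (𝟙 C) (Category.id_comp (C ↘ Spec (CommRingCat.of k)))).isClosedEmbedding.isClosed_range.isOpen_compl⟩ ⊓
      ⟨_, (graph σ hσp).isClosedEmbedding.isClosed_range.isOpen_compl⟩)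
  have hxO : x ∈ O := by
    refine ⟨((pullback (C ↘ Spec (CommRingCat.of k)) (C ↘ Spec (CommRingCat.of k))).mem_basicOpen _ x hx).2 hu, ?_, ?_⟩
    · rintro ⟨c, rfl⟩
      refine hfj ?_
      have h1 : pullback.snd (C ↘ Spec (CommRingCat.of k)) (C ↘ Spec (CommRingCat.of k)) (graph (𝟙 C) (Category.id_comp (C ↘ Spec (CommRingCat.of k))) c) ∈ chartOpen κ j := hj
      rw [← Scheme.Hom.comp_apply, pullback.lift_snd] at h1
      rw [← Scheme.Hom.comp_apply, pullback.lift_fst]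
      exact h1
    · rintro ⟨c, rfl⟩
      refine hfj ?_
      have h1 : pullback.snd (C ↘ Spec (CommRingCat.of k)) (C ↘ Spec (CommRingCat.of k)) (graph σ hσp c) ∈ chartOpen κ j := hj
      rw [← Scheme.Hom.comp_apply, pullback.lift_snd] at h1
      rw [← Scheme.Hom.comp_apply, pullback.lift_fst]
      exact (preimage_chartOpen hσ j).le h1
  obtain ⟨V, hV, hxV, hVO⟩ := exists_isAffineOpen_mem_and_subset hxO
  have hVB : V ≤ (pullback (C ↘ Spec (CommRingCat.of k)) (C ↘ Spec (CommRingCat.of k))).basicOpen (diagEq κ i j) := fun z hz => (hVO hz).1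
  have hVW : V ≤ box (C ↘ Spec (CommRingCat.of k)) (chartOpen κ i) (chartOpen κ j) := hVB.trans ((pullback (C ↘ Spec (CommRingCat.of k)) (C ↘ Spec (CommRingCat.of k))).basicOpen_le _)
  obtain ⟨a, ha, hae⟩ := exists_frame_avoid ⟨V, hV⟩ (ideal_ker_eq_top (τ := 𝟙 C) (hτp := Category.id_comp (C ↘ Spec (CommRingCat.of k))) ⟨V, hV⟩
    fun c hcV => (hVO hcV).2.1 ⟨c, rfl⟩)
  obtain ⟨b, hb, hbe⟩ := exists_frame_avoid ⟨V, hV⟩ (ideal_ker_eq_top (τ := σ) (hτp := hσp) ⟨V, hV⟩
    fun c hcV => (hVO hcV).2.2 ⟨c, rfl⟩)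
  have hunit : IsUnit ((pullback (C ↘ Spec (CommRingCat.of k)) (C ↘ Spec (CommRingCat.of k))).presheaf.map (homOfLE hVW).op (diagEq κ i j)) := by
    have h3 := (RingedSpace.isUnit_res_basicOpen (pullback (C ↘ Spec (CommRingCat.of k)) (C ↘ Spec (CommRingCat.of k))).toRingedSpace (diagEq κ i j)).map
      ((pullback (C ↘ Spec (CommRingCat.of k)) (C ↘ Spec (CommRingCat.of k))).presheaf.map (homOfLE hVB).op).hom
    convert h3 using 1
    exact congr($((pullback (C ↘ Spec (CommRingCat.of k)) (C ↘ Spec (CommRingCat.of k))).presheaf.map_comp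
      (homOfLE ((pullback (C ↘ Spec (CommRingCat.of k)) (C ↘ Spec (CommRingCat.of k))).basicOpen_le _)).op
      (homOfLE hVB).op) (diagEq κ i j))
  refine ⟨V, a, b, _, hxV, ha, hb,
    (Amp73.isFrame_smul_iff ((isFrame_boxFrame κ i j).res hVW) _).2 hunit, ?_⟩
  rw [hae, hbe, one_mul, one_smul,
    ← res_res (boxMod (C ↘ Spec (CommRingCat.of k)) (Lh κ) (Lh κ)) (le_top : box (C ↘ Spec (CommRingCat.of k)) (chartOpen κ i) (chartOpen κ j) ≤ ⊤) hVW, ← diagEq_smul,
    res_smul]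

end Groth.Agent.HypSq53
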