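import Groth.Agent.HypSq53.FlatIdeal
import Groth.Agent.HypSq53.Boxes
import Groth.Agent.Curves2.Glue.Descend
import Groth.Agent.Crv77.RatPoint

/-! The fibres of the two projections of the square. -/

set_option autoImplicit false
set_option backward.isDefEq.respectTransparency.types false
set_option linter.style.haveILetI false

universe u

open CategoryTheory CategoryTheory.Limits AlgebraicGeometry TopologicalSpace Opposite
open Groth.Agent.Var76.LineBundle

open scoped Groth.Agent.FGA29

noncomputable section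

namespace Groth.Agent.HypSq53

theorem isFrame_one {X : Scheme.{u}} (U : X.Opens) :
    IsFrame (Coh.structureModule X) U (show Γ(Coh.structureModule X, U) from (1 : Γ(X, U))) := fun V hV => by
  have h1 : ∀ a : Γ(X, V), a • res (Coh.structureModule X) hV (show Γ(Coh.structureModule X, U) from (1 : Γ(X, U))) =
      (show Γ(Coh.structureModule X, V) from a) := fun a => by
    show a * X.presheaf.map (homOfLE hV).op 1 = a
    rw [map_one, mul_one]
  exact ⟨fun a b hab => (h1 a).symm.trans (hab.trans (h1 b)), fun y => ⟨y, h1 y⟩⟩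

/-- A scheme with one point has only the trivial class. -/
theorem cl_eq_one_of_subsingleton {S : Scheme.{u}} [Subsingleton S] {L : S.Modules}
    (hL : PicF.IsInvertible L) : PicF.cl L = 1 := by
  rcases isEmpty_or_nonempty S with h | ⟨⟨s⟩⟩
  · obtain ⟨e⟩ := Curves2.Glue.nonempty_iso_of_frames (A := L) (B := Coh.structureModule S)
      (fun i : PEmpty.{1} => (i.elim : S.Opens)) (fun x => (h.false x).elim) (fun i => i.elim) (fun i => i.elim)
      (fun i => i.elim) (fun i => i.elim) (fun i => i.elim)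
    exact cl_eq_of_iso e
  obtain ⟨W, hsW, -, e, he⟩ := Mero90.exists_affine_frame hL s ⊤ trivial
  obtain ⟨φ⟩ := Curves2.Glue.nonempty_iso_of_frames (A := L) (B := Coh.structureModule S)
    (fun _ : PUnit.{1} => W.1) (fun x => ⟨⟨⟩, Subsingleton.elim s x ▸ hsW⟩) (fun _ => e)
    (fun _ => show Γ(Coh.structureModule S, W.1) from (1 : Γ(S, W.1))) (fun _ => he) (fun _ => isFrame_one _)
    (fun _ _ c hc => by
      have h1 : c = 1 := (he _ inf_le_left).1 (hc.trans (one_smul Γ(S, W.1 ⊓ W.1) _).symm)
      rw [h1, one_smul])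
  exact cl_eq_of_iso φ

theorem cl_invSide {X : Scheme.{u}} {A B : X.Modules} (h : PicF.cl A * PicF.cl B = 1) : ClSub.IsInverseOf A B :=
  nonempty_iso_of_cl_eq (by rw [FGA29.cl_tensor, h, FGA29.cl_one])

theorem ker_eq_comap_of_isPullback {X X' Z Z' : Scheme.{u}} {i' : Z' ⟶ X'} {f : Z' ⟶ Z} {g : X' ⟶ X}
    {i : Z ⟶ X} [IsClosedImmersion i] (h : IsPullback i' f g i) : i'.ker = i.ker.comap g := by
  rw [← h.isoPullback_hom_fst, Scheme.Hom.ker_comp_of_isIso, Scheme.IdealSheafData.ker_fst_of_isClosedImmersion]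

/-- Flat pullback of the inverse of an ideal. -/
theorem inverse_pullback {X X' Z Z' : Scheme.{u}} {i' : Z' ⟶ X'} [IsClosedImmersion i'] {f : Z' ⟶ Z} {g : X' ⟶ X}
    [Flat g] {i : Z ⟶ X} [IsClosedImmersion i] (h : IsPullback i' f g i) {A : X.Modules}
    (hA : PicF.IsInvertible A) (hAinv : ClSub.IsInverseOf A (ClSub.idealMod i.ker)) :
    ClSub.IsInverseOf ((Scheme.Modules.pullback g).obj A) (ClSub.idealMod i'.ker) := by
  have hI : PicF.IsInvertible (ClSub.idealMod i.ker) := by
    obtain ⟨e⟩ := hAinv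
    exact Inv57.isInvertible_of_tensorMod_iso (EGA73.tensComm _ A ≪≫ e)
  obtain ⟨e⟩ := nonempty_pullback_idealMod g i i' f h.w (ker_eq_comap_of_isPullback h)
    ((Curves2.isInvertible_idealMod_iff i.ker).1 hI)
  refine cl_invSide ?_
  rw [← cl_eq_of_iso e, ← cl_pullback_tensor _ hA hI,
    cl_pullback_congr _ ((FGA29.cl_tensor _ _).trans ((cl_inverse hAinv).trans FGA29.cl_one.symm)), cl_pullback_one]

variable {k : Type u} [Field k] {C : Scheme.{u}} [C.Over (Spec (CommRingCat.of k))]
  [IsProper (C ↘ Spec (CommRingCat.of k))]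
  {x : Spec (CommRingCat.of k) ⟶ C} (hx : x ≫ (C ↘ Spec (CommRingCat.of k)) = 𝟙 (Spec (CommRingCat.of k)))

omit [IsProper (C ↘ Spec (CommRingCat.of k))] in
include hx in
theorem lift_fibre_cond : ((C ↘ Spec (CommRingCat.of k)) ≫ x) ≫ (C ↘ Spec (CommRingCat.of k)) =
    𝟙 C ≫ (C ↘ Spec (CommRingCat.of k)) := by
  rw [Category.assoc, hx, Category.comp_id, Category.id_comp]

/-- The inclusion of `{x} × C`. -/
abbrev fibre : C ⟶ pullback (C ↘ Spec (CommRingCat.of k)) (C ↘ Spec (CommRingCat.of k)) :=
  pullback.lift ((C ↘ Spec (CommRingCat.of k)) ≫ x) (𝟙 C) (lift_fibre_cond hx)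

/-- The inclusion of `C × {x}`. -/
abbrev fibre' : C ⟶ pullback (C ↘ Spec (CommRingCat.of k)) (C ↘ Spec (CommRingCat.of k)) :=
  pullback.lift (𝟙 C) ((C ↘ Spec (CommRingCat.of k)) ≫ x) (lift_fibre_cond hx).symm

theorem isClosedImmersion_fibre : IsClosedImmersion (fibre hx) :=
  have : IsClosedImmersion (fibre hx ≫ pullback.snd _ _) := by
    rw [pullback.lift_snd]; infer_instance
  IsClosedImmersion.of_comp (fibre hx) (pullback.snd _ _)

theorem isClosedImmersion_fibre' : IsClosedImmersion (fibre' hx) :=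
  have : IsClosedImmersion (fibre' hx ≫ pullback.fst _ _) := by
    rw [pullback.lift_fst]; infer_instance
  IsClosedImmersion.of_comp (fibre' hx) (pullback.fst _ _)

omit [IsProper (C ↘ Spec (CommRingCat.of k))] in
theorem isPullback_fibre : IsPullback (fibre hx) (C ↘ Spec (CommRingCat.of k))
    (pullback.fst (C ↘ Spec (CommRingCat.of k)) (C ↘ Spec (CommRingCat.of k))) x := by
  refine IsPullback.of_right ?_ (pullback.lift_fst _ _ _) (IsPullback.of_hasPullback _ _).flip
  rw [pullback.lift_snd, hx]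
  exact IsPullback.of_horiz_isIso ⟨by simp⟩

omit [IsProper (C ↘ Spec (CommRingCat.of k))] in
theorem isPullback_fibre' : IsPullback (fibre' hx) (C ↘ Spec (CommRingCat.of k))
    (pullback.snd (C ↘ Spec (CommRingCat.of k)) (C ↘ Spec (CommRingCat.of k))) x := by
  refine IsPullback.of_right ?_ (pullback.lift_snd _ _ _) (IsPullback.of_hasPullback _ _)
  rw [pullback.lift_fst, hx]
  exact IsPullback.of_horiz_isIso ⟨by simp⟩

variable [Flat (C ↘ Spec (CommRingCat.of k))]
  {A : C.Modules} (hA : PicF.IsInvertible A) (hAinv : ClSub.IsInverseOf A (ClSub.idealMod x.ker))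

include hA hAinv hx in
theorem inverse_fibre :
    ClSub.IsInverseOf ((Scheme.Modules.pullback (pullback.fst (C ↘ Spec (CommRingCat.of k))
      (C ↘ Spec (CommRingCat.of k)))).obj A) (ClSub.idealMod (fibre hx).ker) := by
  have : IsClosedImmersion x := isClosedImmersion_of_comp_eq_id _ _ hx
  have := isClosedImmersion_fibre hx
  exact inverse_pullback (isPullback_fibre hx) hA hAinv

include hA hAinv hx in
theorem inverse_fibre' :
    ClSub.IsInverseOf ((Scheme.Modules.pullback (pullback.snd (C ↘ Spec (CommRingCat.of k))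
      (C ↘ Spec (CommRingCat.of k)))).obj A) (ClSub.idealMod (fibre' hx).ker) := by
  have : IsClosedImmersion x := isClosedImmersion_of_comp_eq_id _ _ hx
  have := isClosedImmersion_fibre' hx
  exact inverse_pullback (isPullback_fibre' hx) hA hAinv

end Groth.Agent.HypSq53
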