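import Groth.Agent.HypSq53.Square

/-! The Euler characteristic of a combination of two fibres and the graph. -/

set_option autoImplicit false
set_option backward.isDefEq.respectTransparency.types false
set_option linter.style.haveILetI false

universe u

open CategoryTheory CategoryTheory.Limits AlgebraicGeometry TopologicalSpace Opposite FunFld

open scoped Groth.Agent.FGA29

noncomputable section

namespace Groth.Agent.HypSq53

attribute [local instance] CrvPic30.ffAlg

variable {k : Type u} [Field k] [IsAlgClosed k] {C : Scheme.{u}} [C.Over (Spec (CommRingCat.of k))]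
  [IsProper (C ↘ Spec (CommRingCat.of k))] [Smooth (C ↘ Spec (CommRingCat.of k))] [IsIntegral C]
  {h : CrvPic30.Setup k C} {κ : C ⟶ CohB1.ProjSpace 1 k} [IsFinite κ] {g : ℕ} {D : Divisor k C.functionField}
  (hD : Double h κ g D) (hdim : topologicalKrullDim C = 1)
  {x : Spec (CommRingCat.of k) ⟶ C} (hx : x ≫ (C ↘ Spec (CommRingCat.of k)) = 𝟙 (Spec (CommRingCat.of k)))
  {A : C.Modules} (hA : PicF.IsInvertible A) (hAinv : ClSub.IsInverseOf A (ClSub.idealMod x.ker))

/-- The class `m V + n H`. -/
abbrev fibresMod (A : C.Modules) (m n : ℕ) :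
    (pullback (C ↘ Spec (CommRingCat.of k)) (C ↘ Spec (CommRingCat.of k))).Modules :=
  boxMod (C ↘ Spec (CommRingCat.of k)) (CohB1.tensorPow A m) (CohB1.tensorPow A n)

include hA in
omit [IsAlgClosed k] [IsProper (C ↘ Spec (CommRingCat.of k))] [Smooth (C ↘ Spec (CommRingCat.of k))] [IsIntegral C] in
theorem isInvertible_fibresMod (m n : ℕ) : PicF.IsInvertible (fibresMod (k := k) A m n) :=
  EGA73.isInvertible_tensorMod (Amp73.isInvertible_pullback _ (EGA73.isInvertible_tensorPow hA m))
    (Amp73.isInvertible_pullback _ (EGA73.isInvertible_tensorPow hA n))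

include hA in
omit [IsAlgClosed k] [IsProper (C ↘ Spec (CommRingCat.of k))] [Smooth (C ↘ Spec (CommRingCat.of k))] [IsIntegral C] in
theorem cl_fibresMod (m n : ℕ) : PicF.cl (fibresMod (k := k) A m n) =
    PicF.cl ((Scheme.Modules.pullback (pullback.fst (C ↘ Spec (CommRingCat.of k))
      (C ↘ Spec (CommRingCat.of k)))).obj A) ^ m * PicF.cl ((Scheme.Modules.pullback (pullback.snd
        (C ↘ Spec (CommRingCat.of k)) (C ↘ Spec (CommRingCat.of k)))).obj A) ^ n := by
  simp only [fibresMod, boxMod, FGA29.cl_tensor, cl_pullback_pow _ hA]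

include hD hdim hx hA hAinv

theorem Double.euler_fibresMod (m n : ℕ) :
    letI := sqOver k C
    Curv2.euler k _ (fibresMod (k := k) A m n) = ((m : ℤ) - ((g : ℤ) - 1)) * ((n : ℤ) - ((g : ℤ) - 1)) := by
  letI := sqOver k C
  have : IsProper ((pullback (C ↘ Spec (CommRingCat.of k)) (C ↘ Spec (CommRingCat.of k))) ↘ Spec (CommRingCat.of k)) :=
    isProper_square
  have := isClosedImmersion_fibre hx
  have := isClosedImmersion_fibre' hx
  have hO : Curv2.euler k C (Coh.structureModule C) = 1 - g := by
    rw [FGA29.euler_cl k (G := h.O ((0 : ℤ) • D)) (FGA29.cl_one.trans clD_zero.symm), hD.euler_eq]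
    ring
  induction m with
  | zero =>
    induction n with
    | zero =>
      rw [FGA29.euler_cl k (G := Coh.structureModule _) (by
        rw [cl_fibresMod hA, pow_zero, pow_zero, one_mul, FGA29.cl_one]), hD.euler_structure_square hdim]
      push_cast; ring
    | succ n ih =>
      have hH := Amp73.isInvertible_pullback (pullback.snd (C ↘ Spec (CommRingCat.of k)) (C ↘ Spec (CommRingCat.of k))) hA
      have hM := isInvertible_fibresMod (k := k) hA 0 n
      rw [FGA29.euler_cl k (G := CohB1.tensorMod (fibresMod (k := k) A 0 n) ((Scheme.Modules.pullback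
          (pullback.snd (C ↘ Spec (CommRingCat.of k)) (C ↘ Spec (CommRingCat.of k)))).obj A)) (by
            simp only [FGA29.cl_tensor, cl_fibresMod hA, pow_succ, mul_assoc]),
        euler_tensor_inverse k (fibre' hx) (by
          show fibre' hx ≫ pullback.fst _ _ ≫ _ = _
          rw [pullback.lift_fst_assoc, Category.id_comp]) hH (inverse_fibre' hx hA hAinv) hM, ih,
        FGA29.euler_cl k (G := Coh.structureModule C) (by
          rw [cl_pullback_tensor _ hM hH, fibresMod, boxMod, cl_pullback_tensor _
            (Amp73.isInvertible_pullback _ (EGA73.isInvertible_tensorPow hA 0))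
            (Amp73.isInvertible_pullback _ (EGA73.isInvertible_tensorPow hA n)),
            cl_pullback_comp (fibre' hx) _ (pullback.lift_fst _ _ _), cl_pullback_id, FGA29.cl_tensorPow, pow_zero,
            cl_fibre'_snd hx (EGA73.isInvertible_tensorPow hA n), cl_fibre'_snd hx hA, one_mul, one_mul,
            FGA29.cl_one]), hO]
      push_cast; ring
  | succ m ih =>
    have hV := Amp73.isInvertible_pullback (pullback.fst (C ↘ Spec (CommRingCat.of k)) (C ↘ Spec (CommRingCat.of k))) hA
    have hM := isInvertible_fibresMod (k := k) hA m n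
    rw [FGA29.euler_cl k (G := CohB1.tensorMod (fibresMod (k := k) A m n) ((Scheme.Modules.pullback
        (pullback.fst (C ↘ Spec (CommRingCat.of k)) (C ↘ Spec (CommRingCat.of k)))).obj A)) (by
          simp only [FGA29.cl_tensor, cl_fibresMod hA, pow_succ, mul_right_comm]),
      euler_tensor_inverse k (fibre hx) (by
        show fibre hx ≫ pullback.fst _ _ ≫ _ = _
        rw [pullback.lift_fst_assoc, Category.assoc, hx, Category.comp_id]) hV (inverse_fibre hx hA hAinv) hM, ih,
      FGA29.euler_cl k (G := CohB1.tensorMod (Coh.structureModule C) (CohB1.tensorPow A n)) (by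
        rw [cl_pullback_tensor _ hM hV, fibresMod, boxMod, cl_pullback_tensor _
          (Amp73.isInvertible_pullback _ (EGA73.isInvertible_tensorPow hA m))
          (Amp73.isInvertible_pullback _ (EGA73.isInvertible_tensorPow hA n)),
          cl_fibre_fst hx (EGA73.isInvertible_tensorPow hA m), cl_fibre_snd, cl_fibre_fst hx hA,
          FGA29.cl_tensor, FGA29.cl_one, mul_one, one_mul]),
      euler_tensorPow_point hx hA hAinv hdim EGA73.isInvertible_structureModule, hO]
    push_cast; ring

variable (σ : C ⟶ C) (hσp : σ ≫ (C ↘ Spec (CommRingCat.of k)) = C ↘ Spec (CommRingCat.of k))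
  (hσ : σ ≫ κ = κ) (hinv : σ ≫ σ = 𝟙 C)
  {N : (pullback (C ↘ Spec (CommRingCat.of k)) (C ↘ Spec (CommRingCat.of k))).Modules}
  (hN : PicF.IsInvertible N) (hNinv : ClSub.IsInverseOf N (ClSub.idealMod (graph σ hσp).ker))

include hσ hinv hN hNinv in
theorem Double.euler_fibresMod_twist (m n r : ℕ) :
    letI := sqOver k C
    Curv2.euler k _ (CohB1.tensorMod (fibresMod (k := k) A m n) (CohB1.tensorPow N r)) =
      ((m : ℤ) - ((g : ℤ) - 1)) * ((n : ℤ) - ((g : ℤ) - 1)) + (r : ℤ) * (m + n) -
        ((g : ℤ) - 1) * r * (r + 2) := by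
  letI := sqOver k C
  have : IsProper ((pullback (C ↘ Spec (CommRingCat.of k)) (C ↘ Spec (CommRingCat.of k))) ↘ Spec (CommRingCat.of k)) :=
    isProper_square
  have := isClosedImmersion_graph σ hσp
  have : IsIso σ := ⟨σ, hinv, hinv⟩
  have hM := isInvertible_fibresMod (k := k) hA m n
  induction r with
  | zero =>
    rw [FGA29.euler_cl k (G := fibresMod (k := k) A m n) (by
      rw [FGA29.cl_tensor, FGA29.cl_tensorPow, pow_zero, mul_one]), hD.euler_fibresMod hdim hx hA hAinv m n]
    push_cast; ring
  | succ r ih =>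
    have hMr := EGA73.isInvertible_tensorMod hM (EGA73.isInvertible_tensorPow hN r)
    have hx' : (x ≫ σ) ≫ (C ↘ Spec (CommRingCat.of k)) = 𝟙 (Spec (CommRingCat.of k)) := by
      rw [Category.assoc, hσp, hx]
    have : IsClosedImmersion x := isClosedImmersion_of_comp_eq_id _ _ hx
    have : IsClosedImmersion (x ≫ σ) := isClosedImmersion_of_comp_eq_id _ _ hx'
    have hA' := Amp73.isInvertible_pullback σ hA
    have hA'inv : ClSub.IsInverseOf ((Scheme.Modules.pullback σ).obj A) (ClSub.idealMod (x ≫ σ).ker) :=
      inverse_pullback (i' := x ≫ σ) (f := 𝟙 _) (g := σ) (i := x)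
        (IsPullback.of_vert_isIso ⟨by rw [Category.assoc, hinv, Category.comp_id, Category.id_comp]⟩) hA hAinv
    rw [FGA29.euler_cl k (G := CohB1.tensorMod (CohB1.tensorMod (fibresMod (k := k) A m n) (CohB1.tensorPow N r)) N)
        (by simp only [FGA29.cl_tensor, FGA29.cl_tensorPow, pow_succ, mul_assoc]),
      euler_tensor_inverse k (graph σ hσp) (graph_over σ hσp) hN hNinv hMr, ih,
      FGA29.euler_cl k (G := CohB1.tensorMod (CohB1.tensorMod (h.O ((-(((g : ℤ) - 1) * (r + 1))) • D))
          (CohB1.tensorPow A m)) (CohB1.tensorPow ((Scheme.Modules.pullback σ).obj A) n)) (by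
        rw [cl_pullback_tensor _ hMr hN, cl_pullback_tensor _ hM (EGA73.isInvertible_tensorPow hN r), fibresMod,
          boxMod, cl_pullback_tensor _ (Amp73.isInvertible_pullback _ (EGA73.isInvertible_tensorPow hA m))
            (Amp73.isInvertible_pullback _ (EGA73.isInvertible_tensorPow hA n)),
          cl_pullback_comp (graph σ hσp) _ (pullback.lift_fst _ _ _),
          cl_pullback_comp (graph σ hσp) _ (pullback.lift_snd _ _ _), cl_pullback_id, cl_pullback_pow σ hA,
          cl_pullback_pow _ hN, hD.cl_normal σ hσp hσ hN hNinv, FGA29.cl_tensor, FGA29.cl_tensor,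
          FGA29.cl_tensorPow, FGA29.cl_tensorPow, mul_assoc (_ * _) (_ ^ r), ← pow_succ, clD_pow,
          show ((r + 1 : ℕ) : ℤ) * -((g : ℤ) - 1) = -(((g : ℤ) - 1) * (r + 1)) by push_cast; ring]
        exact (mul_comm _ _).trans (mul_assoc _ _ _).symm),
      euler_tensorPow_point hx' hA' hA'inv hdim (EGA73.isInvertible_tensorMod (h.isInvertible_O _)
        (EGA73.isInvertible_tensorPow hA m)),
      euler_tensorPow_point hx hA hAinv hdim (h.isInvertible_O _), hD.euler_eq]
    push_cast; ring

end Groth.Agent.HypSq53
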