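import Groth.Agent.Omega57.SectionConormal
import Groth.Agent.Curves2.IdealFrame
import Groth.Agent.MP99.Basic
import Groth.Agent.Div89.Pullback
import Groth.Agent.Amp73.PullTensor
import Groth.Agent.Amp73.Gen

/-! Flat base change of the ideal module of an effective Cartier closed immersion. -/

set_option autoImplicit false
set_option backward.isDefEq.respectTransparency.types false

universe u

open CategoryTheory CategoryTheory.Limits AlgebraicGeometry TopologicalSpace Opposite
open Groth.Agent.Var76.LineBundle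

noncomputable section

namespace Groth.Agent.HypSq53

variable {X X' Z Z' : Scheme.{u}}

theorem nonempty_pullback_idealMod (g : X' ⟶ X) [Flat g] (i : Z ⟶ X) [IsClosedImmersion i]
    (i' : Z' ⟶ X') [IsClosedImmersion i'] (f : Z' ⟶ Z) (hg : i' ≫ g = f ≫ i)
    (hker : i'.ker = i.ker.comap g) (hI : BlowUp.IsEffCartierIdeal i.ker) :
    Nonempty ((Scheme.Modules.pullback g).obj (ClSub.idealMod i.ker) ≅ ClSub.idealMod i'.ker) := by
  obtain ⟨α, hα⟩ := Omega57.exists_idealHom i g i' f hg
  let adj := Scheme.Modules.pullbackPushforwardAdjunction g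
  let φ := (adj.homEquiv _ _).symm α
  have hφ : ∀ V m, φ.app (g ⁻¹ᵁ V) (Amp73.pullS g _ V m) = α.app V m := fun V m => by
    have h1 : adj.unit.app _ ≫ (Scheme.Modules.pushforward g).map φ = α :=
      (adj.homEquiv_unit _ _ φ).symm.trans (Equiv.apply_symm_apply _ _)
    exact congr(Scheme.Modules.Hom.app $h1 V m)
  have : IsIso φ := by
    refine Amp73.isIso_of_frames φ fun x => ?_
    obtain ⟨U, hxU, a, ha, hspan⟩ := hI (g x)
    obtain ⟨e, he⟩ := Curves2.exists_idealSect_of_mem i.ker U (hspan ▸ Ideal.mem_span_singleton_self a)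
    obtain ⟨V, hV, hxV, hVU⟩ := exists_isAffineOpen_mem_and_subset (x := x) (U := g ⁻¹ᵁ U.1) hxU
    have hfr := Amp73.isFrame_pullS g (Curves2.isInvertible_idealMod_iff i.ker |>.2 hI)
      (Curves2.isFrame_of_span i.ker U ha hspan e he)
    refine ⟨V, res _ hVU (Amp73.pullS g _ U.1 e), hxV, hfr.res hVU, ?_⟩
    refine Curves2.isFrame_of_span i'.ker ⟨V, hV⟩
      (Div89.flat_map_nonZeroDivisors (Flat.flat_appLE g U.2 hV hVU) ha) ?_ _ ?_
    · rw [hker, MP99.ideal_comap i.ker g U ⟨V, hV⟩ hVU, hspan, Ideal.map_span, Set.image_singleton]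
    · rw [Mero90.app_res φ hVU, hφ, Curves2.idealSect_res, hα, he, Scheme.Hom.appLE, ConcreteCategory.comp_apply]
  exact ⟨asIso φ⟩

end Groth.Agent.HypSq53
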