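import Groth.Agent.HypSq53.Setting
import Groth.Agent.Crv77.Involution

/-! The involution over the double cover, in coordinates. -/

set_option autoImplicit false
set_option backward.isDefEq.respectTransparency.types false
set_option linter.style.haveILetI false

universe u

open CategoryTheory CategoryTheory.Limits AlgebraicGeometry TopologicalSpace Opposite FunFld IntermediateField

noncomputable section

namespace Groth.Agent.HypSq53

attribute [local instance] CrvPic30.ffAlg

variable {k : Type u} [Field k] {C : Scheme.{u}} [C.Over (Spec (CommRingCat.of k))]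
  [IsIntegral C] [IsIntegral (CohB1.ProjSpace 1 k)] {κ : C ⟶ CohB1.ProjSpace 1 k} [IsFinite κ] [Flat κ]

/-- Coordinates of a double cover with a nontrivial automorphism over it. -/
structure Coord (h : CrvPic30.Setup k C) (κ : C ⟶ CohB1.ProjSpace 1 k) (σ : C ⟶ C)
    (e : κ (genericPoint C) = genericPoint (CohB1.ProjSpace 1 k)) (es : σ (genericPoint C) = genericPoint C)
    (y : C.functionField) (R : Polynomial k) : Prop where
  finrank : Module.finrank k⟮Crv77.ffMap κ e (Crv77.tP k)⟯ C.functionField = 2
  not_mem : y ∉ k⟮Crv77.ffMap κ e (Crv77.tP k)⟯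
  mem_L : y ∈ L ((genus k C.functionField + 1) •
    (FF30.poleDiv (Crv77.ffMap κ e (Crv77.tP k)) : Divisor k C.functionField))
  eqn : y ^ 2 = Polynomial.aeval (Crv77.ffMap κ e (Crv77.tP k)) R
  map_z : Crv77.ffMap σ es (Crv77.ffMap κ e (Crv77.tP k)) = Crv77.ffMap κ e (Crv77.tP k)
  map_y : Crv77.ffMap σ es y = -y
  invol : σ ≫ σ = 𝟙 C

theorem exists_coord (h2 : (2 : k) ≠ 0) (h : CrvPic30.Setup k C)
    (hκ : κ ≫ CohB1.ProjSpace.toSpec 1 k = C ↘ Spec (CommRingCat.of k))
    (hκ2 : ∀ y : CohB1.ProjSpace 1 k, κ.finrank y = 2)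
    (σ : C ⟶ C) (hσ : σ ≫ κ = κ) (hσ1 : σ ≠ 𝟙 C)
    (hσp : σ ≫ (C ↘ Spec (CommRingCat.of k)) = C ↘ Spec (CommRingCat.of k)) :
    ∃ (e : κ (genericPoint C) = genericPoint (CohB1.ProjSpace 1 k)) (es : σ (genericPoint C) = genericPoint C)
      (y : C.functionField) (R : Polynomial k), Coord h κ σ e es y R := by
  have := h.proper
  have := Curves2.ProjLine.isLocallyNoetherian k 1
  have e := Crv77.finite_hom_generic h.dim κ
  have es : σ (genericPoint C) = genericPoint C := by
    have h1 : κ (σ (genericPoint C)) = genericPoint (CohB1.ProjSpace 1 k) := by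
      rw [← Scheme.Hom.comp_apply, hσ, e]
    exact (Set.ext_iff.1 (Crv77.preimage_genericPoint κ e) _).1 h1
  set z := Crv77.ffMap κ e (Crv77.tP k) with hzdef
  have hz : Module.finrank k⟮z⟯ C.functionField = 2 := by
    obtain ⟨w, -, rfl, hd, -⟩ := Crv77.exists_fun_of_hom κ hκ e
    rw [← Crv77.finrank_eq_residueDegree κ e (genericPoint _), hκ2] at hd
    exact hd.symm
  obtain ⟨y₀, hy₀, hy₀L⟩ := Crv77.DL.exists_gen h.ff hz
  obtain ⟨P, Q, hPQ, -, hQ⟩ := Crv77.DL.exists_equation h.ff hz hy₀ hy₀L
  let q : Polynomial k := Polynomial.C (2⁻¹ : k) * Q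
  let y := y₀ + Polynomial.aeval z q
  have hqz : Polynomial.aeval z q ∈ k⟮z⟯ :=
    algebra_adjoin_le_adjoin k _ (Polynomial.aeval_mem_adjoin_singleton k z)
  have hy : y ∉ k⟮z⟯ := fun hm => hy₀ (by simpa [y] using sub_mem hm hqz)
  have hyL : y ∈ L ((genus k C.functionField + 1) • (FF30.poleDiv z : Divisor k C.functionField)) := by
    refine Submodule.add_mem _ hy₀L (Crv77.DL.aeval_mem_L h.ff (Polynomial.mem_degreeLE.2 ?_))
    exact Polynomial.degree_le_of_natDegree_le ((Polynomial.natDegree_C_mul_le _ _).trans hQ)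
  have h2K : algebraMap k C.functionField 2⁻¹ * 2 = 1 := by
    rw [← map_ofNat (algebraMap k C.functionField) 2, ← map_mul, inv_mul_cancel₀ h2, map_one]
  have hy2 : y ^ 2 = Polynomial.aeval z (P + q ^ 2) := by
    simp only [y, q, map_add, map_pow, map_mul, Polynomial.aeval_C]
    linear_combination hPQ + y₀ * Polynomial.aeval z Q * h2K
  let τ : C.functionField →ₐ[k] C.functionField :=
    { Crv77.ffMap σ es with commutes' := Crv77.ffMap_over hσp es }
  have hτz : τ z = z := by
    have : CommRingCat.ofHom (Crv77.ffMap κ e) ≫ CommRingCat.ofHom (Crv77.ffMap σ es) =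
        CommRingCat.ofHom (Crv77.ffMap κ e) := by
      apply Spec.map_injective
      rw [← cancel_mono ((CohB1.ProjSpace 1 k).fromSpecStalk (genericPoint _)), Spec.map_comp, Category.assoc,
        Crv77.fromSpecStalk_ffMap, ← Category.assoc, Crv77.fromSpecStalk_ffMap, Category.assoc, hσ]
    exact congr($this (Crv77.tP k))
  have hτy : τ y = -y := by
    have hsq : τ y * τ y = y * y := by
      rw [← map_mul, ← pow_two, hy2, ← Polynomial.aeval_algHom_apply, hτz]
    refine (mul_self_eq_mul_self_iff.1 hsq).resolve_left fun hfix => hσ1 ?_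
    have hall : ∀ w, τ w = w := fun w => by
      have hw : w ∈ IntermediateField.adjoin k ({z, y} : Set C.functionField) := by
        rw [Crv77.DL.adjoin_eq_top h.ff hz hy]; trivial
      induction hw using IntermediateField.adjoin_induction with
      | mem a ha =>
        rcases ha with rfl | rfl
        · exact hτz
        · exact hfix
      | algebraMap a => exact τ.commutes a
      | add a b _ _ ha hb => rw [map_add, ha, hb]
      | mul a b _ _ ha hb => rw [map_mul, ha, hb]
      | inv a _ ha => rw [map_inv₀, ha]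
    refine Crv77.hom_eq_of_ffMap (k := k) hσp (Category.id_comp _) ?_
    rw [← Crv77.fromSpecStalk_ffMap σ es,
      show CommRingCat.ofHom (Crv77.ffMap σ es) = 𝟙 C.functionField from
        CommRingCat.hom_ext (RingHom.ext hall), Category.comp_id]
    exact Crv77.specMap_id_comp _
  refine ⟨e, es, y, _, hz, hy, hyL, hy2, hτz, hτy, ?_⟩
  have htt : ∀ w, τ (τ w) = w := fun w => by
    have hw : w ∈ IntermediateField.adjoin k ({z, y} : Set C.functionField) := by
      rw [Crv77.DL.adjoin_eq_top h.ff hz hy]; trivial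
    induction hw using IntermediateField.adjoin_induction with
    | mem a ha =>
      rcases ha with rfl | rfl
      · rw [hτz, hτz]
      · rw [hτy, map_neg, hτy, neg_neg]
    | algebraMap a => rw [τ.commutes, τ.commutes]
    | add a b _ _ ha hb => rw [map_add, map_add, ha, hb]
    | mul a b _ _ ha hb => rw [map_mul, map_mul, ha, hb]
    | inv a _ ha => rw [map_inv₀, map_inv₀, ha]
  refine Crv77.hom_eq_of_ffMap (k := k) (by rw [Category.assoc, hσp, hσp]) (Category.id_comp _) ?_
  rw [← Category.assoc, ← Crv77.fromSpecStalk_ffMap σ es, Category.assoc, ← Crv77.fromSpecStalk_ffMap σ es,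
    ← Category.assoc, ← Spec.map_comp, Category.comp_id,
    show CommRingCat.ofHom (Crv77.ffMap σ es) ≫ CommRingCat.ofHom (Crv77.ffMap σ es) = 𝟙 C.functionField from
      CommRingCat.hom_ext (RingHom.ext htt)]
  exact Crv77.specMap_id_comp _

end Groth.Agent.HypSq53
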