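import Groth.Agent.HypSq53.Boxes

/-! Cohomology of `F_m ⊗ N^r` by induction along the graph. -/

set_option autoImplicit false
set_option backward.isDefEq.respectTransparency.types false
set_option linter.style.haveILetI false

universe u

open CategoryTheory CategoryTheory.Limits AlgebraicGeometry TopologicalSpace Opposite FunFld

open scoped Groth.Agent.FGA29

noncomputable section

namespace Groth.Agent.HypSq53

section Les

variable (k : Type u) [Field k]

theorem exact_conj {A B D A' B' D' : Type*} [AddCommGroup A] [AddCommGroup B] [AddCommGroup D]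
    [AddCommGroup A'] [AddCommGroup B'] [AddCommGroup D'] [Module k A] [Module k B] [Module k D]
    [Module k A'] [Module k B'] [Module k D'] (eA : A ≃ₗ[k] A') (eB : B ≃ₗ[k] B') (eD : D ≃ₗ[k] D')
    {f : A →ₗ[k] B} {g : B →ₗ[k] D} (h : Function.Exact f g) :
    Function.Exact ((eB.toLinearMap.comp f).comp eA.symm.toLinearMap)
      ((eD.toLinearMap.comp g).comp eB.symm.toLinearMap) := by
  intro y
  simp only [LinearMap.comp_apply, LinearEquiv.coe_coe, LinearEquiv.map_eq_zero_iff, h _, Set.mem_range]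
  exact ⟨fun ⟨x, hx⟩ => ⟨eA x, by simp [hx]⟩, fun ⟨x, hx⟩ => ⟨eA.symm x, by simp [← hx]⟩⟩

variable {X Z : Scheme.{u}} [Z.Over (Spec (CommRingCat.of k))] [X.Over (Spec (CommRingCat.of k))]
  [IsProper (X ↘ Spec (CommRingCat.of k))]

/-- The long exact sequence of an effective divisor. -/
theorem exists_les (f : Z ⟶ X) [IsClosedImmersion f]
    (hf : f ≫ (X ↘ Spec (CommRingCat.of k)) = Z ↘ Spec (CommRingCat.of k))
    {N : X.Modules} (hN : PicF.IsInvertible N) (hNinv : ClSub.IsInverseOf N (ClSub.idealMod f.ker))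
    {M M' : X.Modules} (hM : PicF.IsInvertible M) (e : PicF.cl M' = PicF.cl M * PicF.cl N)
    {Q : Z.Modules} (hQ : PicF.cl ((Scheme.Modules.pullback f).obj M') = PicF.cl Q) :
    ∃ (a : ∀ n, Coh.HH X M n →ₗ[k] Coh.HH X M' n) (b : ∀ n, Coh.HH X M' n →ₗ[k] Coh.HH Z Q n)
      (d : ∀ n, Coh.HH Z Q n →ₗ[k] Coh.HH X M (n + 1)),
      (∀ n, Function.Exact (a n) (b n)) ∧ (∀ n, Function.Exact (b n) (d n)) ∧
        (∀ n, Function.Exact (d n) (a (n + 1))) ∧ Function.Injective (a 0) := by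
  have := Crv77.isNoetherian_of_proper k X
  obtain ⟨S, hS, ⟨i₁⟩, ⟨i₂⟩, ⟨i₃⟩⟩ := exists_seq f hN hNinv hM
  have hMN := EGA73.isInvertible_tensorMod hM hN
  obtain ⟨j⟩ : Nonempty (M' ≅ CohB1.tensorMod M N) := nonempty_iso_of_cl_eq (by rw [e, FGA29.cl_tensor])
  obtain ⟨q⟩ : Nonempty ((Scheme.Modules.pullback f).obj (CohB1.tensorMod M N) ≅ Q) :=
    nonempty_iso_of_cl_eq ((cl_pullback_congr f (cl_eq_of_iso j).symm).trans hQ)
  have hQ' : Coh.IsCoh Q :=
    Crv77.isCoh_of_iso q (Amp73.isCoh_of_isInvertible (Amp73.isInvertible_pullback f hMN))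
  have := hQ'.1
  have hp : ∀ n, Nonempty (Coh.HH X ((Coh.push f).obj Q) n ≃ₗ[k] Coh.HH Z Q n) := fun n =>
    Var76.nonempty_hhLin_push f hf Q (QC70.isCoh_pushforward f _ hQ').1 n
  let e₁ := fun n => Crv77.hEquiv k i₁ n
  let e₂ := fun n => Crv77.hEquiv k (i₂ ≪≫ j.symm) n
  let e₃ := fun n => (Crv77.hEquiv k (i₃ ≪≫ (Scheme.Modules.pushforward f).mapIso q) n).trans (hp n).some
  refine ⟨fun n => ((e₂ n).toLinearMap.comp (Crv77.hmap k S.f n)).comp (e₁ n).symm.toLinearMap,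
    fun n => ((e₃ n).toLinearMap.comp (Crv77.hmap k S.g n)).comp (e₂ n).symm.toLinearMap,
    fun n => ((e₁ (n + 1)).toLinearMap.comp (Crv77.hδ k hS n)).comp (e₃ n).symm.toLinearMap,
    fun n => exact_conj k _ _ _ (Crv77.exact_f_g k hS n), fun n => exact_conj k _ _ _ (Crv77.exact_g_δ k hS n),
    fun n => exact_conj k _ _ _ (Crv77.exact_δ_f k hS n), ?_⟩
  exact ((e₂ 0).injective.comp (Crv77.injective_f_zero k hS)).comp (e₁ 0).symm.injective

end Les

attribute [local instance] CrvPic30.ffAlg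

variable {k : Type u} [Field k] [IsAlgClosed k] {C : Scheme.{u}} [C.Over (Spec (CommRingCat.of k))]
  [IsProper (C ↘ Spec (CommRingCat.of k))]
  [IsIntegral C] {h : CrvPic30.Setup k C} {κ : C ⟶ CohB1.ProjSpace 1 k} [IsFinite κ] {g : ℕ}
  {D : Divisor k C.functionField}

/-- `F_m ⊗ N^r`. -/
abbrev twistBox (κ : C ⟶ CohB1.ProjSpace 1 k)
    (N : (pullback (C ↘ Spec (CommRingCat.of k)) (C ↘ Spec (CommRingCat.of k))).Modules) (m r : ℕ) :
    (pullback (C ↘ Spec (CommRingCat.of k)) (C ↘ Spec (CommRingCat.of k))).Modules :=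
  CohB1.tensorMod (boxMod (C ↘ Spec (CommRingCat.of k)) (CohB1.tensorPow (Lh κ) m) (CohB1.tensorPow (Lh κ) m))
    (CohB1.tensorPow N r)

variable {σ : C ⟶ C} {hσp : σ ≫ (C ↘ Spec (CommRingCat.of k)) = C ↘ Spec (CommRingCat.of k)}
  {N : (pullback (C ↘ Spec (CommRingCat.of k)) (C ↘ Spec (CommRingCat.of k))).Modules}

omit [IsAlgClosed k] [IsProper (C ↘ Spec (CommRingCat.of k))] [IsIntegral C] [IsFinite κ] in
theorem isInvertible_twistBox (hN : PicF.IsInvertible N) (m r : ℕ) :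
    PicF.IsInvertible (twistBox κ N m r) :=
  EGA73.isInvertible_tensorMod (EGA73.isInvertible_tensorMod
    (Amp73.isInvertible_pullback _ (EGA73.isInvertible_tensorPow (isInvertible_Lh κ) m))
    (Amp73.isInvertible_pullback _ (EGA73.isInvertible_tensorPow (isInvertible_Lh κ) m)))
    (EGA73.isInvertible_tensorPow hN r)

omit [IsAlgClosed k] [IsProper (C ↘ Spec (CommRingCat.of k))] [IsIntegral C] [IsFinite κ] in
theorem cl_twistBox_succ (m r : ℕ) :
    PicF.cl (twistBox κ N m (r + 1)) = PicF.cl (twistBox κ N m r) * PicF.cl N := by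
  simp only [twistBox, FGA29.cl_tensor, FGA29.cl_tensorPow, pow_succ, mul_assoc]

omit [IsAlgClosed k] [IsProper (C ↘ Spec (CommRingCat.of k))] [IsIntegral C] [IsFinite κ] in
theorem cl_twistBox_zero (m : ℕ) :
    PicF.cl (twistBox κ N m 0) = PicF.cl (boxMod (C ↘ Spec (CommRingCat.of k)) (CohB1.tensorPow (Lh κ) m)
      (CohB1.tensorPow (Lh κ) m)) := by
  simp only [twistBox, FGA29.cl_tensor, FGA29.cl_tensorPow, pow_zero, mul_one]

variable (hD : Double h κ g D) (hσ : σ ≫ κ = κ)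
  (hN : PicF.IsInvertible N) (hNinv : ClSub.IsInverseOf N (ClSub.idealMod (graph σ hσp).ker))

include hD hσ hN hNinv

omit [IsFinite κ] in
theorem Double.cl_graph_twistBox (m r : ℕ) :
    PicF.cl ((Scheme.Modules.pullback (graph σ hσp)).obj (twistBox κ N m r)) =
      clD h D (2 * m - ((g : ℤ) - 1) * r) := by
  rw [twistBox, cl_pullback_tensor (graph σ hσp) (EGA73.isInvertible_tensorMod
      (Amp73.isInvertible_pullback _ (EGA73.isInvertible_tensorPow (isInvertible_Lh κ) m))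
      (Amp73.isInvertible_pullback _ (EGA73.isInvertible_tensorPow (isInvertible_Lh κ) m)))
      (EGA73.isInvertible_tensorPow hN r)]
  rw [(hD.cl_graph_box σ hσp hσ m m : PicF.cl ((Scheme.Modules.pullback (graph σ hσp)).obj (boxMod (C ↘ Spec (CommRingCat.of k)) (CohB1.tensorPow (Lh κ) m) (CohB1.tensorPow (Lh κ) m))) = _), cl_pullback_pow _ hN, hD.cl_normal σ hσp hσ hN hNinv, clD_pow, clD_mul]
  refine congrArg (clD h D) ?_
  ring

omit [IsFinite κ] in
theorem Double.exists_les_twistBox (m r : ℕ) :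
    letI := sqOver k C
    ∃ (a : ∀ n, Coh.HH _ (twistBox κ N m r) n →ₗ[k] Coh.HH _ (twistBox κ N m (r + 1)) n)
      (b : ∀ n, Coh.HH _ (twistBox κ N m (r + 1)) n →ₗ[k]
        Coh.HH C (h.O ((2 * (m : ℤ) - ((g : ℤ) - 1) * ((r + 1 : ℕ) : ℤ)) • D)) n)
      (d : ∀ n, Coh.HH C (h.O ((2 * (m : ℤ) - ((g : ℤ) - 1) * ((r + 1 : ℕ) : ℤ)) • D)) n →ₗ[k]
        Coh.HH _ (twistBox κ N m r) (n + 1)),
      (∀ n, Function.Exact (a n) (b n)) ∧ (∀ n, Function.Exact (b n) (d n)) ∧
        (∀ n, Function.Exact (d n) (a (n + 1))) ∧ Function.Injective (a 0) := by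
  letI := sqOver k C
  have : IsProper ((pullback (C ↘ Spec (CommRingCat.of k)) (C ↘ Spec (CommRingCat.of k))) ↘ Spec (CommRingCat.of k)) :=
    isProper_square
  have := isClosedImmersion_graph σ hσp
  exact exists_les k (graph σ hσp) (graph_over σ hσp) hN hNinv (isInvertible_twistBox hN m r)
    (cl_twistBox_succ m r) (hD.cl_graph_twistBox hσ hN hNinv m (r + 1))

theorem Double.subsingleton_h2_twistBox {m : ℕ} (hm : g ≤ m) :
    ∀ r : ℕ, Subsingleton (Coh.HH _ (twistBox κ N m r) 2) := by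
  intro r
  induction r with
  | zero =>
    letI := sqOver k C
    obtain ⟨e⟩ := nonempty_iso_of_cl_eq (cl_twistBox_zero (κ := κ) (N := N) m)
    have := (hD.subsingleton_boxPow hm hm).2
    exact (Crv77.hEquiv k e 2).toEquiv.subsingleton
  | succ r ih =>
    letI := sqOver k C
    obtain ⟨a, b, d, hab, -, -, -⟩ := hD.exists_les_twistBox hσ hN hNinv m r
    have := h.curveCoh.vanish _ (Crv77.isCoh_of_isInvertible (h.isInvertible_O
      ((2 * (m : ℤ) - ((g : ℤ) - 1) * ((r + 1 : ℕ) : ℤ)) • D))) 2 le_rfl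
    refine subsingleton_of_forall_eq 0 fun x => ?_
    obtain ⟨y, rfl⟩ := (hab 2 x).1 (Subsingleton.elim _ _)
    rw [Subsingleton.elim y 0, map_zero]

theorem Double.subsingleton_h1_twistBox {m : ℕ} (hm : g ≤ m) :
    ∀ r : ℕ, ((g : ℤ) - 1) * (r + 1) < 2 * m → Subsingleton (Coh.HH _ (twistBox κ N m r) 1) := by
  intro r
  induction r with
  | zero =>
    intro _
    letI := sqOver k C
    obtain ⟨e⟩ := nonempty_iso_of_cl_eq (cl_twistBox_zero (κ := κ) (N := N) m)
    have := (hD.subsingleton_boxPow hm hm).1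
    exact (Crv77.hEquiv k e 1).toEquiv.subsingleton
  | succ r ih =>
    intro hr
    letI := sqOver k C
    have hg := hD.pos
    have hγ : (0 : ℤ) ≤ (g : ℤ) - 1 := by omega
    push_cast at hr
    have := ih (by nlinarith)
    obtain ⟨a, b, d, hab, -, -, -⟩ := hD.exists_les_twistBox hσ hN hNinv m r
    have := hD.h1_zero (s := 2 * (m : ℤ) - ((g : ℤ) - 1) * ((r + 1 : ℕ) : ℤ)) (by push_cast; nlinarith)
    refine subsingleton_of_forall_eq 0 fun x => ?_
    obtain ⟨y, rfl⟩ := (hab 1 x).1 (Subsingleton.elim _ _)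
    rw [Subsingleton.elim y 0, map_zero]

omit [IsFinite κ] in
theorem Double.euler_twistBox {m : ℕ} (h0 : letI := sqOver k C
      Curv2.euler k _ (boxMod (C ↘ Spec (CommRingCat.of k)) (CohB1.tensorPow (Lh κ) m) (CohB1.tensorPow (Lh κ) m)) =
        (2 * (m : ℤ) + 1 - g) * (2 * m + 1 - g)) :
    ∀ r : ℕ, letI := sqOver k C
      Curv2.euler k _ (twistBox κ N m r) =
        (2 * (m : ℤ) - ((g : ℤ) - 1)) ^ 2 + 4 * (m : ℤ) * r - ((g : ℤ) - 1) * r * (r + 2) := by
  intro r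
  induction r with
  | zero =>
    letI := sqOver k C
    rw [FGA29.euler_cl k (cl_twistBox_zero m), h0]
    push_cast; ring
  | succ r ih =>
    letI := sqOver k C
    have : IsProper ((pullback (C ↘ Spec (CommRingCat.of k)) (C ↘ Spec (CommRingCat.of k))) ↘ Spec (CommRingCat.of k)) :=
      isProper_square
    have := isClosedImmersion_graph σ hσp
    rw [FGA29.euler_cl k ((cl_twistBox_succ m r).trans (FGA29.cl_tensor _ _).symm),
      euler_tensor_inverse k (graph σ hσp) (graph_over σ hσp) hN hNinv (isInvertible_twistBox hN m r),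
      ih,
      hD.euler_of_cl ((cl_pullback_congr _ ((FGA29.cl_tensor _ _).trans (cl_twistBox_succ m r).symm)).trans
        (hD.cl_graph_twistBox hσ hN hNinv m (r + 1)))]
    push_cast; ring

theorem Double.finrank_h0_h1_twistBox {m : ℕ} (hm : g ≤ m) (r : ℕ) :
    letI := sqOver k C
    (Module.finrank k (Coh.HH _ (twistBox κ N m r) 0) : ℤ) - Module.finrank k (Coh.HH _ (twistBox κ N m r) 1) =
      (2 * (m : ℤ) - ((g : ℤ) - 1)) ^ 2 + 4 * (m : ℤ) * r - ((g : ℤ) - 1) * r * (r + 2) := by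
  letI := sqOver k C
  have : IsProper ((pullback (C ↘ Spec (CommRingCat.of k)) (C ↘ Spec (CommRingCat.of k))) ↘ Spec (CommRingCat.of k)) :=
    isProper_square
  have hG := Amp73.isCoh_of_isInvertible (isInvertible_twistBox (κ := κ) hN m r)
  have := hG.1
  have hb : Crv77.FinBdd k (twistBox κ N m r) 3 := ⟨fun n => Serre71.finite_hh_of_isProper k _ hG n,
    fun n hn => subsingleton_HH _ (cpair κ) _ n hn⟩
  have := hD.subsingleton_h2_twistBox hσ hN hNinv hm r
  rw [← hD.euler_twistBox hσ hN hNinv (hD.euler_boxPow hm hm) r, hb.euler_eq, Finset.sum_range_succ,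
    Finset.sum_range_succ, Finset.sum_range_succ, Finset.sum_range_zero,
    Module.finrank_zero_of_subsingleton (M := Coh.HH _ (twistBox κ N m r) 2)]
  simp [sub_eq_add_neg]

theorem Double.finrank_h0_twistBox {m r : ℕ} (hm : g ≤ m) (hr : ((g : ℤ) - 1) * (r + 1) < 2 * m) :
    letI := sqOver k C
    (Module.finrank k (Coh.HH _ (twistBox κ N m r) 0) : ℤ) =
      (2 * (m : ℤ) - ((g : ℤ) - 1)) ^ 2 + 4 * (m : ℤ) * r - ((g : ℤ) - 1) * r * (r + 2) := by
  letI := sqOver k C
  have := hD.subsingleton_h1_twistBox hσ hN hNinv hm r hr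
  rw [← hD.finrank_h0_h1_twistBox hσ hN hNinv hm r,
    Module.finrank_zero_of_subsingleton (M := Coh.HH _ (twistBox κ N m r) 1)]
  simp

theorem Double.finrank_h1_twistBox {m r : ℕ} (hm : g ≤ m) (hpos : ((g : ℤ) - 1) * r < 2 * m)
    (hle : 2 * (m : ℤ) ≤ ((g : ℤ) - 1) * (r + 1)) :
    letI := sqOver k C
    (Module.finrank k (Coh.HH _ (twistBox κ N m r) 1) : ℤ) = g - (2 * (m : ℤ) - ((g : ℤ) - 1) * r) := by
  letI := sqOver k C
  obtain ⟨r, rfl⟩ : ∃ q, r = q + 1 := by
    refine ⟨r - 1, (Nat.succ_pred_eq_of_pos (Nat.pos_of_ne_zero fun h0 => ?_)).symm⟩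
    subst h0
    push_cast at hle
    omega
  push_cast at hpos hle ⊢
  have := hD.subsingleton_h1_twistBox hσ hN hNinv hm r hpos
  have := hD.subsingleton_h2_twistBox hσ hN hNinv hm r
  obtain ⟨a, b, d, hab, hbd, -, -⟩ := hD.exists_les_twistBox hσ hN hNinv m r
  have hb : Function.Bijective (b 1) := by
    refine ⟨(injective_iff_map_eq_zero _).2 fun x hx => ?_, fun y => (hbd 1 y).1 (Subsingleton.elim _ _)⟩
    obtain ⟨y, rfl⟩ := (hab 1 x).1 hx
    rw [Subsingleton.elim y 0, map_zero]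
  rw [(LinearEquiv.ofBijective _ hb).finrank_eq, hD.h1_eq]
  push_cast
  obtain ⟨j, hj⟩ : ∃ j : ℕ, (g : ℤ) - 1 - (2 * (m : ℤ) - ((g : ℤ) - 1) * (r + 1)) = j :=
    Int.eq_ofNat_of_zero_le (by linarith)
  rw [hj, hD.ell_nat (by omega)]
  push_cast; omega

omit [IsFinite κ] in
theorem Double.finrank_h0_twistBox_succ_of_neg {m r : ℕ} (hneg : 2 * (m : ℤ) < ((g : ℤ) - 1) * ((r + 1 : ℕ) : ℤ)) :
    letI := sqOver k C
    Module.finrank k (Coh.HH _ (twistBox κ N m (r + 1)) 0) = Module.finrank k (Coh.HH _ (twistBox κ N m r) 0) := by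
  letI := sqOver k C
  obtain ⟨a, b, d, hab, -, -, ha⟩ := hD.exists_les_twistBox hσ hN hNinv m r
  have := h.isNoetherian
  have := h.curveCoh.finite _ (Crv77.isCoh_of_isInvertible (h.isInvertible_O
    ((2 * (m : ℤ) - ((g : ℤ) - 1) * ((r + 1 : ℕ) : ℤ)) • D))) 0
  have : Subsingleton (Coh.HH C (h.O ((2 * (m : ℤ) - ((g : ℤ) - 1) * ((r + 1 : ℕ) : ℤ)) • D)) 0) := by
    rw [← Module.finrank_zero_iff (R := k), hD.h0_eq, hD.ell_neg (by omega)]
  exact (LinearEquiv.ofBijective _ ⟨ha, fun y => (hab 0 y).1 (Subsingleton.elim _ _)⟩).finrank_eq.symm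

theorem Double.finrank_h0_twistBox_succ {m r : ℕ} (hm : g ≤ m) (hr : ((g : ℤ) - 1) * (r + 1) < 2 * m) :
    letI := sqOver k C
    Module.finrank k (Coh.HH _ (twistBox κ N m (r + 1)) 0) = Module.finrank k (Coh.HH _ (twistBox κ N m r) 0) +
      Module.finrank k (Coh.HH C (h.O ((2 * (m : ℤ) - ((g : ℤ) - 1) * ((r + 1 : ℕ) : ℤ)) • D)) 0) := by
  letI := sqOver k C
  have : IsProper ((pullback (C ↘ Spec (CommRingCat.of k)) (C ↘ Spec (CommRingCat.of k))) ↘ Spec (CommRingCat.of k)) :=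
    isProper_square
  have := hD.subsingleton_h1_twistBox hσ hN hNinv hm r hr
  have := Serre71.finite_hh_of_isProper k _ (Amp73.isCoh_of_isInvertible
    (isInvertible_twistBox (κ := κ) hN m (r + 1))) 0
  obtain ⟨a, b, d, hab, hbd, -, ha⟩ := hD.exists_les_twistBox hσ hN hNinv m r
  have h1 := (b 0).finrank_range_add_finrank_ker
  rw [LinearMap.range_eq_top.2 fun y => (hbd 0 y).1 (Subsingleton.elim _ _), finrank_top,
    (hab 0).linearMap_ker_eq, LinearMap.finrank_range_of_inj ha] at h1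
  omega

omit [IsFinite κ] in
theorem Double.finrank_h0_twistBox_stable {m q r : ℕ} (hqr : q ≤ r)
    (hneg : ∀ i : ℕ, q < i → i ≤ r → 2 * (m : ℤ) < ((g : ℤ) - 1) * (i : ℤ)) :
    letI := sqOver k C
    Module.finrank k (Coh.HH _ (twistBox κ N m r) 0) = Module.finrank k (Coh.HH _ (twistBox κ N m q) 0) := by
  induction r, hqr using Nat.le_induction with
  | base => rfl
  | succ r hr ih =>
    rw [hD.finrank_h0_twistBox_succ_of_neg hσ hN hNinv (hneg (r + 1) (Nat.lt_succ_of_le hr) le_rfl)]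
    exact ih fun i h1 h2 => hneg i h1 (Nat.le_succ_of_le h2)

end Groth.Agent.HypSq53
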