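import Groth.Agent.HypSq53.Surface

/-! The standing hypotheses of the square of a hyperelliptic curve. -/

set_option autoImplicit false
set_option backward.isDefEq.respectTransparency.types false
set_option linter.style.haveILetI false

universe u

open CategoryTheory CategoryTheory.Limits AlgebraicGeometry TopologicalSpace Opposite FunFld

open scoped Groth.Agent.FGA29

noncomputable section

namespace Groth.Agent.HypSq53

attribute [local instance] CrvPic30.ffAlg

variable {k : Type u} [Field k] [IsAlgClosed k] {C : Scheme.{u}} [C.Over (Spec (CommRingCat.of k))]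
  [IsProper (C ↘ Spec (CommRingCat.of k))] [Smooth (C ↘ Spec (CommRingCat.of k))] [ConnectedSpace C]

/-- All the data of the statements. -/
theorem exists_setting (hdim : topologicalKrullDim C = 1) {g : ℕ} (hg : 2 ≤ g) (hgen : Curv2.genus k C = g)
    (κ : C ⟶ CohB1.ProjSpace 1 k) (hκ : κ ≫ CohB1.ProjSpace.toSpec 1 k = C ↘ Spec (CommRingCat.of k))
    [IsFinite κ] [Flat κ] (hκ2 : ∀ y : CohB1.ProjSpace 1 k, κ.finrank y = 2) :
    ∃ (_ : IsIntegral C) (h : CrvPic30.Setup k C) (D : Divisor k C.functionField), Double h κ g D := by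
  have := isIntegral_curve (k := k) (C := C)
  have := Curves2.ProjLine.isIntegral k 1
  have h := CrvPic30.setup_of_smooth_algClosed (k := k) (C := C) hdim
  exact ⟨‹IsIntegral C›, h, exists_double h κ hκ hκ2 (by omega) hgen⟩

/-- The cover of the curve. -/
def cpair (κ : C ⟶ CohB1.ProjSpace 1 k) [IsFinite κ] : Pair C :=
  haveI := Curves2.ProjLine.isProper_toSpec k 1
  linePair k κ

/-- The structure morphism of the square. -/
abbrev sqOver (k : Type u) [Field k] (C : Scheme.{u}) [C.Over (Spec (CommRingCat.of k))] :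
    (pullback (C ↘ Spec (CommRingCat.of k)) (C ↘ Spec (CommRingCat.of k))).Over (Spec (CommRingCat.of k)) :=
  ⟨pullback.fst (C ↘ Spec (CommRingCat.of k)) (C ↘ Spec (CommRingCat.of k)) ≫ (C ↘ Spec (CommRingCat.of k))⟩

/- The self-intersection of the graph of an automorphism commuting with the cover. -/
omit [Smooth (C ↘ Spec (CommRingCat.of k))] [ConnectedSpace C] in
theorem intNum_graph [IsIntegral C] {h : CrvPic30.Setup k C} {κ : C ⟶ CohB1.ProjSpace 1 k} [IsFinite κ] {g : ℕ}
    {D : Divisor k C.functionField} (hD : Double h κ g D) (σ : C ⟶ C) (hσ : σ ≫ κ = κ)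
    (hσp : σ ≫ (C ↘ Spec (CommRingCat.of k)) = C ↘ Spec (CommRingCat.of k))
    {N : (pullback (C ↘ Spec (CommRingCat.of k)) (C ↘ Spec (CommRingCat.of k))).Modules}
    (hN : PicF.IsInvertible N) (hNinv : ClSub.IsInverseOf N (ClSub.idealMod (graph σ hσp).ker)) :
    letI := sqOver k C
    FGA.intNum k (pullback (C ↘ Spec (CommRingCat.of k)) (C ↘ Spec (CommRingCat.of k))) 2 ![N, N]
      (Coh.structureModule _) = 2 - 2 * (g : ℤ) := by
  letI := sqOver k C
  have : IsProper ((pullback (C ↘ Spec (CommRingCat.of k)) (C ↘ Spec (CommRingCat.of k))) ↘ Spec (CommRingCat.of k)) :=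
    isProper_square
  have := isClosedImmersion_graph σ hσp
  rw [intNum_two (C ↘ Spec (CommRingCat.of k)) k (cpair κ) (fun i => by fin_cases i <;> exact hN),
    intE_inverse k (graph σ hσp) (graph_over σ hσp) hN hNinv hN]
  have h1 := hD.cl_normal σ hσp hσ hN hNinv
  rw [hD.euler_of_cl ((cl_pullback_tensor _ hN hN).trans (by rw [h1, clD_mul])), hD.euler_of_cl h1]
  ring

end Groth.Agent.HypSq53
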