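import Groth.Agent.HypSq53.Fibre
import Groth.Agent.FBase64.ProductDim
import Groth.Agent.Curves2.OpenIso

/-! Euler characteristics and intersection numbers on the square of a curve. -/

set_option autoImplicit false
set_option backward.isDefEq.respectTransparency.types false
set_option linter.style.haveILetI false

universe u

open CategoryTheory CategoryTheory.Limits AlgebraicGeometry TopologicalSpace Opposite FunFld

open scoped Groth.Agent.FGA29

noncomputable section

namespace Groth.Agent.HypSq53

variable {k : Type u} [Field k] [IsAlgClosed k] {C : Scheme.{u}} [C.Over (Spec (CommRingCat.of k))]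
  [IsProper (C ↘ Spec (CommRingCat.of k))]

section Curve

variable [Smooth (C ↘ Spec (CommRingCat.of k))] [IsIntegral C]
  {x : Spec (CommRingCat.of k) ⟶ C} (hx : x ≫ (C ↘ Spec (CommRingCat.of k)) = 𝟙 (Spec (CommRingCat.of k)))
  {A : C.Modules} (hA : PicF.IsInvertible A) (hAinv : ClSub.IsInverseOf A (ClSub.idealMod x.ker))

include hx hA hAinv

omit [IsAlgClosed k] in
/-- A point has degree one. -/
theorem euler_tensor_point (hdim : topologicalKrullDim C = 1) {M : C.Modules} (hM : PicF.IsInvertible M) :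
    Curv2.euler k C (CohB1.tensorMod M A) = Curv2.euler k C M + 1 := by
  letI : (Spec (CommRingCat.of k)).Over (Spec (CommRingCat.of k)) := ⟨𝟙 _⟩
  have : IsClosedImmersion x := isClosedImmersion_of_comp_eq_id _ _ hx
  have key : ∀ {M : C.Modules}, PicF.IsInvertible M → Curv2.euler k C (CohB1.tensorMod M A) =
      Curv2.euler k C M + Curv2.euler k (Spec (CommRingCat.of k)) (Coh.structureModule _) := fun hM => by
    rw [euler_tensor_inverse k x hx hA hAinv hM, FGA29.euler_cl k ((cl_eq_one_of_subsingleton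
      (Amp73.isInvertible_pullback x (EGA73.isInvertible_tensorMod hM hA))).trans FGA29.cl_one.symm)]
  obtain ⟨hc, hker, hk⟩ := Crv77.section_point k x hx
  have : IsIntegrallyClosed (C.presheaf.stalk (x (IsLocalRing.closedPoint k))) :=
    (Curves2.isIntegrallyClosed_stalk_of_smooth (C ↘ Spec (CommRingCat.of k)) _).2
  obtain ⟨L, hL, hd, ⟨e⟩⟩ := Crv77.exists_invertible_of_point (k := k) hdim hc hk
  have hAL : PicF.cl A = PicF.cl L := by
    have h1 := cl_eq_of_iso e
    rw [FGA29.cl_tensor, FGA29.cl_one, ← hker] at h1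
    rw [← mul_one (PicF.cl A), ← h1, ← mul_assoc, cl_inverse hAinv, one_mul]
  have h1 := key (EGA73.isInvertible_structureModule (X := C))
  rw [Crv77.euler_congr (k := k) (EGA73.tensUnitLeft A)] at h1
  rw [Curv2.deg, ← FGA29.euler_cl k hAL, Nat.cast_one, one_mul] at hd
  rw [key hM]
  linarith

omit [IsAlgClosed k] in
theorem euler_tensorPow_point (hdim : topologicalKrullDim C = 1) {M : C.Modules} (hM : PicF.IsInvertible M) :
    ∀ n : ℕ, Curv2.euler k C (CohB1.tensorMod M (CohB1.tensorPow A n)) = Curv2.euler k C M + n := by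
  intro n
  induction n with
  | zero =>
    rw [FGA29.euler_cl k (G := M) (by rw [FGA29.cl_tensor, FGA29.cl_tensorPow, pow_zero, mul_one]),
      Nat.cast_zero, add_zero]
  | succ n ih =>
    rw [FGA29.euler_cl k (G := CohB1.tensorMod (CohB1.tensorMod M (CohB1.tensorPow A n)) A)
      (by simp only [FGA29.cl_tensor, FGA29.cl_tensorPow, pow_succ, mul_assoc]),
      euler_tensor_point hx hA hAinv hdim (EGA73.isInvertible_tensorMod hM (EGA73.isInvertible_tensorPow hA n)), ih]
    push_cast
    ring

end Curve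

omit [IsAlgClosed k] [IsProper (C ↘ Spec (CommRingCat.of k))] in
theorem intE_swap [(pullback (C ↘ Spec (CommRingCat.of k)) (C ↘ Spec (CommRingCat.of k))).Over (Spec (CommRingCat.of k))]
    (A B : (pullback (C ↘ Spec (CommRingCat.of k)) (C ↘ Spec (CommRingCat.of k))).Modules) :
    Cyc90.Dev.intE k ![A, B] (Coh.structureModule _) = Cyc90.Dev.intE k ![B, A] (Coh.structureModule _) := by
  rw [intE_pair, intE_pair, Crv77.euler_congr (k := k) (EGA73.tensComm A B)]
  ring

section Fibres

variable {x : Spec (CommRingCat.of k) ⟶ C} (hx : x ≫ (C ↘ Spec (CommRingCat.of k)) = 𝟙 (Spec (CommRingCat.of k)))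

omit [IsAlgClosed k] [IsProper (C ↘ Spec (CommRingCat.of k))] in
theorem cl_fibre_fst {M : C.Modules} (hM : PicF.IsInvertible M) :
    PicF.cl ((Scheme.Modules.pullback (fibre hx)).obj ((Scheme.Modules.pullback
      (pullback.fst (C ↘ Spec (CommRingCat.of k)) (C ↘ Spec (CommRingCat.of k)))).obj M)) = 1 := by
  rw [cl_pullback_comp _ _ (pullback.lift_fst _ _ _), ← cl_pullback_comp (C ↘ Spec (CommRingCat.of k)) x rfl,
    cl_pullback_congr _ ((cl_eq_one_of_subsingleton (Amp73.isInvertible_pullback x hM)).trans FGA29.cl_one.symm),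
    cl_pullback_one]

omit [IsAlgClosed k] [IsProper (C ↘ Spec (CommRingCat.of k))] in
theorem cl_fibre_snd (M : C.Modules) :
    PicF.cl ((Scheme.Modules.pullback (fibre hx)).obj ((Scheme.Modules.pullback
      (pullback.snd (C ↘ Spec (CommRingCat.of k)) (C ↘ Spec (CommRingCat.of k)))).obj M)) = PicF.cl M := by
  rw [cl_pullback_comp _ _ (pullback.lift_snd _ _ _), cl_pullback_id]

omit [IsAlgClosed k] [IsProper (C ↘ Spec (CommRingCat.of k))] in
theorem cl_fibre'_snd {M : C.Modules} (hM : PicF.IsInvertible M) :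
    PicF.cl ((Scheme.Modules.pullback (fibre' hx)).obj ((Scheme.Modules.pullback
      (pullback.snd (C ↘ Spec (CommRingCat.of k)) (C ↘ Spec (CommRingCat.of k)))).obj M)) = 1 := by
  rw [cl_pullback_comp _ _ (pullback.lift_snd _ _ _), ← cl_pullback_comp (C ↘ Spec (CommRingCat.of k)) x rfl,
    cl_pullback_congr _ ((cl_eq_one_of_subsingleton (Amp73.isInvertible_pullback x hM)).trans FGA29.cl_one.symm),
    cl_pullback_one]

variable [Smooth (C ↘ Spec (CommRingCat.of k))] {A : C.Modules} (hA : PicF.IsInvertible A)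
  (hAinv : ClSub.IsInverseOf A (ClSub.idealMod x.ker))

omit [IsAlgClosed k] in
include hx hA hAinv in
/-- `(V · M)` is the degree on the fibre. -/
theorem intE_fibre {M : (pullback (C ↘ Spec (CommRingCat.of k)) (C ↘ Spec (CommRingCat.of k))).Modules}
    (hM : PicF.IsInvertible M) :
    letI := sqOver k C
    Cyc90.Dev.intE k ![(Scheme.Modules.pullback (pullback.fst (C ↘ Spec (CommRingCat.of k))
        (C ↘ Spec (CommRingCat.of k)))).obj A, M] (Coh.structureModule _) =
      Curv2.euler k C ((Scheme.Modules.pullback (fibre hx)).obj M) - Curv2.euler k C (Coh.structureModule C) := by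
  letI := sqOver k C
  have : IsProper ((pullback (C ↘ Spec (CommRingCat.of k)) (C ↘ Spec (CommRingCat.of k))) ↘ Spec (CommRingCat.of k)) :=
    isProper_square
  have := isClosedImmersion_fibre hx
  have hV := Amp73.isInvertible_pullback (pullback.fst (C ↘ Spec (CommRingCat.of k)) (C ↘ Spec (CommRingCat.of k))) hA
  rw [intE_inverse k (fibre hx) (show fibre hx ≫ pullback.fst _ _ ≫ _ = _ by
      rw [pullback.lift_fst_assoc, Category.assoc, hx, Category.comp_id]) hV (inverse_fibre hx hA hAinv) hM,
    FGA29.euler_cl k ((cl_fibre_fst hx hA).trans FGA29.cl_one.symm),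
    FGA29.euler_cl k (G := (Scheme.Modules.pullback (fibre hx)).obj M)
      (by rw [cl_pullback_tensor _ hM hV, cl_fibre_fst hx hA, mul_one])]

variable [IsIntegral C] (hdim : topologicalKrullDim C = 1)

omit [IsAlgClosed k] in
include hx hA hAinv hdim in
/-- A fibre meets the graph of an endomorphism over the base once. -/
theorem intE_fibre_graph (σ : C ⟶ C) (hσp : σ ≫ (C ↘ Spec (CommRingCat.of k)) = C ↘ Spec (CommRingCat.of k))
    {N : (pullback (C ↘ Spec (CommRingCat.of k)) (C ↘ Spec (CommRingCat.of k))).Modules}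
    (hN : PicF.IsInvertible N) (hNinv : ClSub.IsInverseOf N (ClSub.idealMod (graph σ hσp).ker)) :
    letI := sqOver k C
    Cyc90.Dev.intE k ![(Scheme.Modules.pullback (pullback.fst (C ↘ Spec (CommRingCat.of k))
        (C ↘ Spec (CommRingCat.of k)))).obj A, N] (Coh.structureModule _) = 1 := by
  letI := sqOver k C
  have : IsProper ((pullback (C ↘ Spec (CommRingCat.of k)) (C ↘ Spec (CommRingCat.of k))) ↘ Spec (CommRingCat.of k)) :=
    isProper_square
  have := isClosedImmersion_graph σ hσp
  have hV := Amp73.isInvertible_pullback (pullback.fst (C ↘ Spec (CommRingCat.of k)) (C ↘ Spec (CommRingCat.of k))) hA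
  rw [intE_swap, intE_inverse k (graph σ hσp) (graph_over σ hσp) hN hNinv hV,
    FGA29.euler_cl k (G := CohB1.tensorMod ((Scheme.Modules.pullback (graph σ hσp)).obj N) A) (by
      rw [cl_pullback_tensor _ hV hN, cl_pullback_comp _ _ (pullback.lift_fst _ _ _), cl_pullback_id,
        FGA29.cl_tensor, mul_comm]),
    euler_tensor_point hx hA hAinv hdim (Amp73.isInvertible_pullback _ hN)]
  ring

end Fibres

attribute [local instance] CrvPic30.ffAlg

omit [IsAlgClosed k] in
theorem dim_square_le (hdim : topologicalKrullDim C = 1) :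
    topologicalKrullDim ↥(pullback (C ↘ Spec (CommRingCat.of k)) (C ↘ Spec (CommRingCat.of k))) ≤ 2 := by
  rw [FBase64.topologicalKrullDim_pullback, hdim]
  rfl

variable [IsIntegral C] {h : CrvPic30.Setup k C} {κ : C ⟶ CohB1.ProjSpace 1 k} [IsFinite κ] {g : ℕ}
  {D : Divisor k C.functionField}

/-- `χ(F_m)` for every `m`. -/
theorem Double.euler_boxPow_all (hD : Double h κ g D) (hdim : topologicalKrullDim C = 1) (m : ℕ) :
    letI := sqOver k C
    Curv2.euler k _ (boxMod (C ↘ Spec (CommRingCat.of k)) (CohB1.tensorPow (Lh κ) m) (CohB1.tensorPow (Lh κ) m)) =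
      (2 * (m : ℤ) + 1 - g) * (2 * m + 1 - g) := by
  letI := sqOver k C
  have : IsProper ((pullback (C ↘ Spec (CommRingCat.of k)) (C ↘ Spec (CommRingCat.of k))) ↘ Spec (CommRingCat.of k)) :=
    isProper_square
  let F := boxMod (C ↘ Spec (CommRingCat.of k)) (Lh κ) (Lh κ)
  have hF : PicF.IsInvertible F := EGA73.isInvertible_tensorMod
    (Amp73.isInvertible_pullback _ (isInvertible_Lh κ)) (Amp73.isInvertible_pullback _ (isInvertible_Lh κ))
  let G := fun n : ℕ => boxMod (C ↘ Spec (CommRingCat.of k)) (CohB1.tensorPow (Lh κ) n) (CohB1.tensorPow (Lh κ) n)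
  have hG : ∀ n, PicF.cl (G n) = PicF.cl F ^ n := fun n => by
    simp only [G, F, boxMod, FGA29.cl_tensor, cl_pullback_pow _ (isInvertible_Lh κ), mul_pow]
  suffices H : ∀ j n : ℕ, g ≤ n + j → Curv2.euler k _ (G n) = (2 * (n : ℤ) + 1 - g) * (2 * n + 1 - g) from
    H g m (by omega)
  intro j
  induction j with
  | zero => exact fun n hn => hD.euler_boxPow hn hn
  | succ j ih =>
    intro n hn
    have h0 := FGA29.intE_eq_zero_of_dim_lt k (M := (Fin.cons F (Fin.cons F (Fin.cons F ![])) : Fin 3 → _))
      (Fin.cases hF (Fin.cases hF (Fin.cases hF fun i => i.elim0)))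
      (Amp73.isCoh_of_isInvertible (show PicF.IsInvertible (G n) from EGA73.isInvertible_tensorMod
        (Amp73.isInvertible_pullback _ (EGA73.isInvertible_tensorPow (isInvertible_Lh κ) n))
        (Amp73.isInvertible_pullback _ (EGA73.isInvertible_tensorPow (isInvertible_Lh κ) n))))
      (lt_of_le_of_lt ((topologicalKrullDim_subspace_le _ _).trans (dim_square_le hdim))
        (by exact_mod_cast (by norm_num : (2 : ℕ) < 3)))
    simp only [FGA29.intE_cons, FGA29.intE_zero] at h0
    have e1 := FGA29.euler_cl k (F := CohB1.tensorMod (G n) F) (G := G (n + 1))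
      (by rw [FGA29.cl_tensor, hG, hG, pow_succ])
    have e2 := FGA29.euler_cl k (F := CohB1.tensorMod (CohB1.tensorMod (G n) F) F) (G := G (n + 2))
      (by simp only [FGA29.cl_tensor, hG, pow_succ])
    have e3 := FGA29.euler_cl k (F := CohB1.tensorMod (CohB1.tensorMod (CohB1.tensorMod (G n) F) F) F)
      (G := G (n + 3)) (by simp only [FGA29.cl_tensor, hG, pow_succ])
    rw [e1, e2, e3, ih (n + 1) (by omega), ih (n + 2) (by omega), ih (n + 3) (by omega)] at h0
    push_cast at h0
    linarith

theorem Double.euler_structure_square (hD : Double h κ g D) (hdim : topologicalKrullDim C = 1) :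
    letI := sqOver k C
    Curv2.euler k (pullback (C ↘ Spec (CommRingCat.of k)) (C ↘ Spec (CommRingCat.of k))) (Coh.structureModule _) =
      ((g : ℤ) - 1) * ((g : ℤ) - 1) := by
  letI := sqOver k C
  rw [← FGA29.euler_cl k (F := boxMod (C ↘ Spec (CommRingCat.of k)) (CohB1.tensorPow (Lh κ) 0)
    (CohB1.tensorPow (Lh κ) 0)) (by
      simp only [boxMod, FGA29.cl_tensor, cl_pullback_pow _ (isInvertible_Lh κ), pow_zero, mul_one, FGA29.cl_one]),
    hD.euler_boxPow_all hdim 0]
  push_cast
  ring

end Groth.Agent.HypSq53
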